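import Cfsg.Agent.Lib.Invol.SylowAux
import Cfsg.Agent.Lib.Glaub.Burnside

/-! Non-solvable permutation groups of degree at most 8 containing a 5-cycle. -/

set_option autoImplicit false

namespace Cfsg.Agent.Lib.Forms

open Equiv Subgroup MulAction Cfsg.Agent.Lib.Invol Cfsg.Agent.Lib.Glaub

variable {H : Type*} [Group H]

/-- Restriction of a permutation representation to an invariant subset. -/
def resHom {α : Type*} (φ : H →* Perm α) (P : α → Prop) (hP : ∀ h x, P (φ h x) ↔ P x) : H →* Perm {x // P x} :=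
  MonoidHom.mk' (fun h => (φ h).subtypePerm (hP h)) fun a b => Equiv.ext fun x => Subtype.ext
    (DFunLike.congr_fun (map_mul φ a b) x.1)

theorem resHom_eq_one {α : Type*} {φ : H →* Perm α} {P : α → Prop} {hP : ∀ h x, P (φ h x) ↔ P x} {h : H} :
    resHom φ P hP h = 1 ↔ ∀ x, P x → φ h x = x :=
  ⟨fun e x hx => congrArg (fun f : Perm {x // P x} => (f ⟨x, hx⟩).1) e, fun e => Equiv.ext fun x => Subtype.ext (e x x.2)⟩

theorem mul_dvd_card_of_not_solvable [Finite H] (hns : ¬ Group.IsSolvable H) {r : ℕ} (hr : r.Prime) (h3 : 3 < r)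
    (h : ∀ s : ℕ, s.Prime → s ∣ Nat.card H → s = 2 ∨ s = 3 ∨ s = r) : 6 * r ∣ Nat.card H := by
  have h2 : 2 ∣ Nat.card H := by
    by_contra h2
    exact hns (isSolvable_of_two_primes Nat.prime_three hr H fun s hs hd =>
      (h s hs hd).resolve_left fun e => h2 (e ▸ hd))
  have h4 : 3 ∣ Nat.card H := by
    by_contra h2
    exact hns (isSolvable_of_two_primes Nat.prime_two hr H fun s hs hd =>
      (h s hs hd).imp_right fun e => e.resolve_left fun e => h2 (e ▸ hd))
  have h5 : r ∣ Nat.card H := by
    by_contra h2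
    exact hns (isSolvable_of_two_primes Nat.prime_two Nat.prime_three H fun s hs hd =>
      (h s hs hd).imp_right fun e => e.resolve_right fun e => h2 (e ▸ hd))
  refine Nat.Coprime.mul_dvd_of_dvd_of_dvd ?_ (Nat.Coprime.mul_dvd_of_dvd_of_dvd (m := 2) (n := 3) (by decide) h2 h4) h5
  exact Nat.Coprime.mul_left (m := 2) (n := 3) ((Nat.coprime_primes Nat.prime_two hr).mpr (by omega))
    ((Nat.coprime_primes Nat.prime_three hr).mpr (by omega))

theorem prime_dvd_small {s n : ℕ} (hs : s.Prime) (h : s ∣ n) (hn : n ∣ 20160) : s = 2 ∨ s = 3 ∨ s = 5 ∨ s = 7 := by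
  have := h.trans hn
  rw [show 20160 = 2 ^ 6 * (3 ^ 2 * (5 * 7)) by norm_num, hs.dvd_mul, hs.dvd_mul, hs.dvd_mul] at this
  rcases this with h | h | h | h
  · exact .inl ((Nat.prime_dvd_prime_iff_eq hs Nat.prime_two).mp (hs.dvd_of_dvd_pow h))
  · exact .inr (.inl ((Nat.prime_dvd_prime_iff_eq hs Nat.prime_three).mp (hs.dvd_of_dvd_pow h)))
  · exact .inr (.inr (.inl ((Nat.prime_dvd_prime_iff_eq hs Nat.prime_five).mp h)))
  · exact .inr (.inr (.inr ((Nat.prime_dvd_prime_iff_eq hs (by norm_num)).mp h)))

theorem thirty_dvd_card [Finite H] (hns : ¬ Group.IsSolvable H) (h : Nat.card H ∣ 2880) : 30 ∣ Nat.card H :=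
  mul_dvd_card_of_not_solvable hns Nat.prime_five (by norm_num) fun s hs hd => by
    have := prime_dvd_small hs hd (h.trans (by norm_num))
    have h7 : s ≠ 7 := fun e => absurd ((e ▸ hd).trans h) (by norm_num)
    tauto

theorem isSolvable_of_card_thirty (h : Nat.card H = 30) : Group.IsSolvable H := by
  haveI : Finite H := Nat.finite_of_card_ne_zero (by omega)
  obtain ⟨T⟩ : Nonempty (Sylow 2 H) := inferInstance
  have hT : Nat.card T = 2 := by rw [T.card_eq_multiplicity, h]; decide +kernel
  obtain ⟨N, hN⟩ := exists_index_two_of_isCyclic_sylow (by rw [h]; decide) T (isCyclic_of_prime_card hT)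
  haveI := normal_of_index_eq_two hN
  have h1 := N.card_mul_index
  rw [hN, h] at h1
  haveI := isSolvable_of_two_primes Nat.prime_three Nat.prime_five N fun s hs hd => by
    rw [show Nat.card N = 3 * 5 by omega, hs.dvd_mul] at hd
    exact hd.imp (Nat.prime_dvd_prime_iff_eq hs Nat.prime_three).mp (Nat.prime_dvd_prime_iff_eq hs Nat.prime_five).mp
  haveI := isSolvable_of_two_primes Nat.prime_two Nat.prime_two (H ⧸ N) fun s hs hd =>
    .inl ((Nat.prime_dvd_prime_iff_eq hs Nat.prime_two).mp (hN ▸ hd))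
  exact Group.isSolvable_of_ker_le_range N.subtype (QuotientGroup.mk' N) (by simp)

theorem exists_embed_of_index [Finite H] (K : Subgroup H) (hK : K.normalCore = ⊥) :
    ∃ (P : H ⧸ K → Prop) (ψ : K →* Perm {x // P x}), Function.Injective ψ ∧ Nat.card {x // P x} + 1 = K.index := by
  classical
  let φ := (toPermHom H (H ⧸ K)).comp K.subtype
  have h1 : ∀ h, φ h ((1 : H) : H ⧸ K) = (1 : H) := fun h => QuotientGroup.eq.mpr (by simp)
  refine ⟨fun x => x ≠ ((1 : H) : H ⧸ K), resHom φ _ fun h x => by
    conv_lhs => rw [← h1 h]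
    exact (φ h).injective.ne_iff, (injective_iff_map_eq_one _).mpr fun h hh => ?_, ?_⟩
  · have : (h : H) ∈ K.normalCore := by
      rw [normalCore_eq_ker]
      exact Equiv.ext fun x => (eq_or_ne x ((1 : H) : H ⧸ K)).elim (fun e => e ▸ h1 h) (resHom_eq_one.mp hh x)
    simpa [hK] using this
  · haveI := Fintype.ofFinite (H ⧸ K)
    rw [index, Nat.card_eq_fintype_card, Nat.card_eq_fintype_card, Fintype.card_subtype_compl, Fintype.card_subtype_eq]
    have : 0 < Fintype.card (H ⧸ K) := Fintype.card_pos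
    omega

variable {α : Type*} [Fintype α] [DecidableEq α]

theorem not_solvable_even {K : Subgroup (Perm α)} (h : ¬ Group.IsSolvable K) :
    ¬ Group.IsSolvable (K.subgroupOf (alternatingGroup α)) := fun _ =>
  h (Group.isSolvable_of_ker_le_range
    (((alternatingGroup α).subtype.comp (K.subgroupOf _).subtype).codRestrict K fun x => x.2)
    (Perm.sign.comp K.subtype) fun x hx => ⟨⟨⟨x, hx⟩, x.2⟩, rfl⟩)

theorem not_solvable_range {G : Type*} [Group G] (hns : ¬ Group.IsSolvable H) {φ : H →* G} (hφ : Function.Injective φ) :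
    ¬ Group.IsSolvable φ.range := fun _ =>
  hns (Group.isSolvable_of_isSolvable_injective (f := φ.rangeRestrict) (φ.rangeRestrict_injective_iff.mpr hφ))

theorem alt_le_of_not_dvd (hα : 5 ≤ Nat.card α) {K : Subgroup (Perm α)}
    (h : ¬ (Nat.card α).factorial / 2 ∣ (K.subgroupOf (alternatingGroup α)).index.factorial) :
    alternatingGroup α ≤ K := by
  haveI := alternatingGroup.isSimpleGroup hα
  haveI : Nontrivial α := Finite.one_lt_card_iff_nontrivial.mp (by omega)
  by_contra h1
  exact h (nat_card_alternatingGroup (α := α) ▸ card_dvd_factorial_index (mt subgroupOf_eq_top.mp h1))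

theorem equiv_of_range_eq {φ : H →* Perm α} (hφ : Function.Injective φ) (h : φ.range = alternatingGroup α) {n : ℕ}
    (hn : Nat.card α = n) : Nonempty (H ≃* alternatingGroup (Fin n)) :=
  ⟨((MonoidHom.ofInjective hφ).trans (MulEquiv.subgroupCongr h)).trans (Finite.equivFinOfCardEq hn).altCongrHom⟩

theorem equiv_of_alt_le {φ : H →* Perm α} (hφ : Function.Injective φ) (h : alternatingGroup α ≤ φ.range) {n : ℕ}
    (hn : Nat.card α = n) (h2 : 2 ≤ n) : Nonempty (H ≃* alternatingGroup (Fin n)) ∨ Nonempty (H ≃* Perm (Fin n)) := by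
  haveI : Nontrivial α := Finite.one_lt_card_iff_nontrivial.mp (by omega)
  rcases (Nat.dvd_prime Nat.prime_two).mp (alternatingGroup.index_eq_two (α := α) ▸ index_dvd_of_le h) with h1 | h1
  · exact .inr ⟨(MulEquiv.ofBijective φ ⟨hφ, MonoidHom.range_eq_top.mp (index_eq_one.mp h1)⟩).trans
      (Finite.equivFinOfCardEq hn).permCongrHom⟩
  · exact .inl (equiv_of_range_eq hφ (Perm.eq_alternatingGroup_of_index_eq_two h1) hn)

theorem equiv_of_five (hns : ¬ Group.IsSolvable H) {φ : H →* Perm α} (hφ : Function.Injective φ)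
    (hn : Nat.card α = 5) : Nonempty (H ≃* alternatingGroup (Fin 5)) ∨ Nonempty (H ≃* Perm (Fin 5)) := by
  haveI : Nontrivial α := Finite.one_lt_card_iff_nontrivial.mp (by omega)
  refine equiv_of_alt_le hφ (alt_le_of_not_dvd hn.ge ?_) hn (by norm_num)
  have h1 := (φ.range.subgroupOf (alternatingGroup α)).card_mul_index
  rw [nat_card_alternatingGroup, hn, show Nat.factorial 5 / 2 = 60 from rfl] at h1
  obtain ⟨k, hk⟩ := thirty_dvd_card (not_solvable_even (not_solvable_range hns hφ))
    ((Dvd.intro _ h1).trans (by norm_num))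
  have h2 : (φ.range.subgroupOf (alternatingGroup α)).index ∣ 2 := ⟨k, by rw [hk] at h1; linarith⟩
  rcases (Nat.dvd_prime Nat.prime_two).mp h2 with h | h <;> rw [h, hn] <;> decide

theorem equiv_of_six (hns : ¬ Group.IsSolvable H) {φ : H →* Perm α} (hφ : Function.Injective φ)
    (hn : Nat.card α = 6) : (Nonempty (H ≃* alternatingGroup (Fin 5)) ∨ Nonempty (H ≃* Perm (Fin 5))) ∨
      (Nonempty (H ≃* alternatingGroup (Fin 6)) ∨ Nonempty (H ≃* Perm (Fin 6))) := by
  classical
  haveI : Nontrivial α := Finite.one_lt_card_iff_nontrivial.mp (by omega)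
  have h0 := not_solvable_even (not_solvable_range hns hφ)
  have h1 := (φ.range.subgroupOf (alternatingGroup α)).card_mul_index
  rw [nat_card_alternatingGroup, hn, show Nat.factorial 6 / 2 = 360 from rfl] at h1
  obtain ⟨k, hk⟩ := thirty_dvd_card h0 ((Dvd.intro _ h1).trans (by norm_num))
  have h2 : (φ.range.subgroupOf (alternatingGroup α)).index ∣ 12 := ⟨k, by rw [hk] at h1; linarith⟩
  by_cases h3 : (φ.range.subgroupOf (alternatingGroup α)).index = 6
  · left
    by_cases h4 : φ.range ≤ alternatingGroup α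
    · haveI := alternatingGroup.isSimpleGroup (α := α) (by omega)
      obtain ⟨P, ψ, h5, h6⟩ := exists_embed_of_index (φ.range.subgroupOf (alternatingGroup α))
        ((Normal.eq_bot_or_eq_top inferInstance).resolve_right fun h => by
          have := index_dvd_of_le (h ▸ normalCore_le _ : ⊤ ≤ φ.range.subgroupOf (alternatingGroup α))
          simp [h3] at this)
      haveI := Fintype.ofFinite {x // P x}
      let e := (MonoidHom.ofInjective hφ).trans (subgroupOfEquivOfLe h4).symm
      exact equiv_of_five hns (φ := ψ.comp e.toMonoidHom) (h5.comp e.injective) (by omega)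
    · have h5 : φ.range ⊔ alternatingGroup α = ⊤ := by
        rw [← index_eq_one]
        refine ((Nat.dvd_prime Nat.prime_two).mp (alternatingGroup.index_eq_two (α := α) ▸
          index_dvd_of_le le_sup_right)).resolve_right fun h => h4 ?_
        exact Perm.eq_alternatingGroup_of_index_eq_two h ▸ le_sup_left
      have h6 : φ.range.index = 6 := by
        have h6 := Cfsg.Agent.Lib.Core.card_sup_mul_card_inf (H := φ.range) (N := alternatingGroup α)
          (by rw [normalizer_eq_top]; exact le_top)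
        have h7 := φ.range.card_mul_index
        rw [h5, card_top, ← Cfsg.Agent.Lib.Core.card_subgroupOf (inf_le_right : _ ≤ alternatingGroup α),
          inf_subgroupOf_right, nat_card_alternatingGroup] at h6
        rw [Nat.card_perm, hn] at h6 h7
        rw [h3] at h1
        rw [show Nat.card (φ.range.subgroupOf (alternatingGroup α)) = 60 by omega] at h6
        rw [show Nat.factorial 6 = 720 from rfl] at h6 h7
        have h8 : Nat.card φ.range = 120 := by omega
        rw [h8] at h7; omega
      obtain ⟨P, ψ, h7, h8⟩ := exists_embed_of_index φ.range (by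
        by_contra h
        have := (Perm.alternatingGroup_le_of_normal (by omega) ((nontrivial_iff_ne_bot _).mpr h)).trans
          (normalCore_le φ.range)
        rw [subgroupOf_eq_top.mpr this, index_top] at h3
        omega)
      haveI := Fintype.ofFinite {x // P x}
      let e := MonoidHom.ofInjective hφ
      exact equiv_of_five hns (φ := ψ.comp e.toMonoidHom) (h7.comp e.injective) (by omega)
  · have h4 : (φ.range.subgroupOf (alternatingGroup α)).index ≠ 12 := fun h =>
      h0 (isSolvable_of_card_thirty (by rw [h] at h1; omega))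
    refine .inr (equiv_of_alt_le hφ (alt_le_of_not_dvd (by omega) ?_) hn (by norm_num))
    have := Nat.le_of_dvd (by norm_num) h2
    generalize (φ.range.subgroupOf (alternatingGroup α)).index = i at *
    rw [hn]
    interval_cases i <;> simp_all (config := {decide := true})

theorem isMultiplyPretransitive_of_five {G : Subgroup (Perm α)} [IsPretransitive G α] {g : Perm α} (hg : g ∈ G)
    (h5 : orderOf g = 5) {n : ℕ} (hn : Nat.card α = n + 6) (hn' : n < 4) : IsMultiplyPretransitive G α (n + 2) := by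
  classical
  have hc : g.IsCycle := Perm.isCycle_of_prime_order' (h5 ▸ Nat.prime_five) (by rw [← Nat.card_eq_fintype_card]; omega)
  have hs : g.support.card = 5 := hc.orderOf ▸ h5
  have := Perm.isPretransitive_of_isCycle_mem hc hg
  have h1 : Nat.card (SubMulAction.ofFixingSubgroup G (g.support : Set α)ᶜ) = 5 := by
    rw [Nat.card_eq_fintype_card, Fintype.card_subtype, ← hs]
    congr 1; ext x; simp [SubMulAction.mem_ofFixingSubgroup_iff]
  haveI : IsPreprimitive (fixingSubgroup G (g.support : Set α)ᶜ) (SubMulAction.ofFixingSubgroup G (g.support : Set α)ᶜ) :=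
    IsPreprimitive.of_prime_card (h1 ▸ Nat.prime_five)
  have hG : IsPreprimitive G α := IsPreprimitive.of_card_lt
    (f := SubMulAction.ofFixingSubgroup_equivariantMap G (g.support : Set α)ᶜ) (by
      rw [Set.ncard_range_of_injective (SubMulAction.ofFixingSubgroup_equivariantMap_injective ..), h1]; omega)
  haveI := hG.isMultiplyPreprimitive (s := (g.support : Set α)ᶜ) (n := n) (by
    have := Set.ncard_add_ncard_compl (g.support : Set α)
    rw [Set.ncard_coe_finset] at this; omega) (by omega) inferInstance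
  exact IsMultiplyPreprimitive.isMultiplyPretransitive ..

theorem eq_alt_of_five {G : Subgroup (Perm α)} [IsPretransitive G α] (hG : G ≤ alternatingGroup α) {g : Perm α}
    (hg : g ∈ G) (h5 : orderOf g = 5) (hn : Nat.card α = 7 ∨ Nat.card α = 8) : G = alternatingGroup α := by
  obtain ⟨n, hn1, hn2⟩ : ∃ n, Nat.card α = n + 6 ∧ (n = 1 ∨ n = 2) := ⟨Nat.card α - 6, by omega⟩
  haveI : Nontrivial α := Finite.one_lt_card_iff_nontrivial.mp (by omega)
  have h1 := isMultiplyPretransitive_of_five hg h5 hn1 (by omega)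
  have h2 : ∀ s : Set α, s.ncard = n + 2 → (fixingSubgroup G s).index = 210 * (if n = 1 then 1 else 8) := fun s hs => by
    have := h1.index_of_fixingSubgroup_mul hs
    rw [hn1] at this
    rcases hn2 with rfl | rfl <;> simp [Nat.factorial] at this ⊢ <;> omega
  obtain ⟨a⟩ : Nonempty α := inferInstance
  obtain ⟨t, ht⟩ : ∃ t : stabilizer G a, orderOf t = 2 := by
    refine exists_prime_orderOf_dvd_card' 2 ?_
    obtain ⟨s, -, hs⟩ := Set.exists_subset_card_eq (s := (Set.univ : Set α)) (n := n + 2) (by rw [Set.ncard_univ]; omega)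
    have h3 := (fixingSubgroup G s).card_mul_index
    have h4 := (stabilizer G a).card_mul_index
    rw [index_stabilizer_of_transitive, hn1] at h4
    rw [h2 s hs] at h3
    rcases hn2 with rfl | rfl <;> simp at h3 <;> omega
  have h3 : orderOf (t.1.1 : Perm α) = 2 := by simpa using ht
  have h4 : t.1.1.support.card = 4 := by
    obtain ⟨k, hk⟩ := Perm.cycleType_prime_order (h3 ▸ Nat.prime_two)
    have h6 : t.1.1.support.card < Nat.card α := by
      rw [Nat.card_eq_fintype_card]
      exact Finset.card_lt_univ_of_notMem (x := a) (Perm.notMem_support.mpr t.2)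
    have h7 := Perm.mem_alternatingGroup.mp (hG t.1.2)
    rw [Perm.sign_of_cycleType] at h7
    rw [← Perm.sum_cycleType] at h6 ⊢
    rw [hk, h3] at h6 h7 ⊢
    simp only [Multiset.sum_replicate, smul_eq_mul, Multiset.card_replicate] at h6 h7 ⊢
    have : k ≤ 2 := by omega
    interval_cases k
    · exact absurd h7 (by decide)
    · rfl
    · exact absurd h7 (by decide)
  have h6 : 2 ∣ Nat.card (fixingSubgroup G (t.1.1.support : Set α)ᶜ) := by
    rw [← h3, orderOf_coe]
    exact Subgroup.orderOf_dvd_natCard _ ((mem_fixingSubgroup_iff _).mpr fun y hy => Perm.notMem_support.mp hy)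
  have h7 := (fixingSubgroup G (t.1.1.support : Set α)ᶜ).card_mul_index
  rw [h2 _ (by
    have := Set.ncard_add_ncard_compl (t.1.1.support : Set α)
    rw [Set.ncard_coe_finset] at this; omega)] at h7
  refine le_antisymm hG (alt_le_of_not_dvd (by omega) fun h => ?_)
  have h8 := (G.subgroupOf (alternatingGroup α)).card_mul_index
  rw [Cfsg.Agent.Lib.Core.card_subgroupOf hG, nat_card_alternatingGroup] at h8
  obtain ⟨k, hk⟩ := h6
  have h9 : (G.subgroupOf (alternatingGroup α)).index ∣ 6 := ⟨k, by
    rw [← h7, hk, hn1] at h8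
    rcases hn2 with rfl | rfl <;> simp [Nat.factorial] at h8 <;> linarith⟩
  have := h.trans (Nat.factorial_dvd_factorial (Nat.le_of_dvd (by norm_num) h9))
  rw [hn1] at this
  rcases hn2 with rfl | rfl <;> exact absurd this (by decide)

theorem equiv_of_five_dvd [Finite H] [Nontrivial H] (hR : ∀ N : Subgroup H, N.Normal → Group.IsSolvable N → N = ⊥)
    {φ : H →* Perm (Fin 8)} (hφ : Function.Injective φ) (hA : ∀ h, Perm.sign (φ h) = 1) (h5 : 5 ∣ Nat.card H) :
    (∃ n : ℕ, 5 ≤ n ∧ n ≤ 8 ∧ Nonempty (H ≃* alternatingGroup (Fin n))) ∨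
      Nonempty (H ≃* Perm (Fin 5)) ∨ Nonempty (H ≃* Perm (Fin 6)) := by
  classical
  have hns : ¬ Group.IsSolvable H := fun _ => top_ne_bot (hR ⊤ inferInstance inferInstance)
  haveI := Fact.mk Nat.prime_five
  obtain ⟨c, hc⟩ := exists_prime_orderOf_dvd_card' 5 h5
  have h1 : orderOf (φ c) = 5 := by rw [orderOf_injective φ hφ, hc]
  have hcy : (φ c).IsCycle := Perm.isCycle_of_prime_order' (h1 ▸ Nat.prime_five) (by simp [h1])
  obtain ⟨x, hx, hx'⟩ := id hcy
  let P : Fin 8 → Prop := fun y => ∃ h, φ h x = y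
  have hP : ∀ h y, P (φ h y) ↔ P y := fun h y =>
    ⟨fun ⟨k, hk⟩ => ⟨h⁻¹ * k, by simp [hk]⟩, fun ⟨k, hk⟩ => ⟨h * k, by simp [hk]⟩⟩
  have h2 : 5 ≤ Nat.card {y // P y} := by
    rw [Nat.card_eq_fintype_card, Fintype.card_subtype, ← h1, hcy.orderOf]
    refine Finset.card_le_card fun y hy => ?_
    obtain ⟨i, hi⟩ := hx' (Perm.mem_support.mp hy)
    exact Finset.mem_filter.mpr ⟨Finset.mem_univ _, c ^ i, by simpa using hi⟩
  have h3 : Nat.card {y // P y} + Nat.card {y // ¬ P y} = 8 := by
    rw [Nat.card_eq_fintype_card, Nat.card_eq_fintype_card, Fintype.card_subtype_compl, Fintype.card_fin]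
    have := Fintype.card_subtype_le P
    rw [Fintype.card_fin] at this; omega
  let ψ := resHom φ P hP
  have hψ : Function.Injective ψ := by
    rw [← MonoidHom.ker_eq_bot_iff]
    refine hR _ inferInstance ?_
    haveI := isSolvable_of_two_primes Nat.prime_two Nat.prime_three (Perm {y // ¬ P y}) fun s hs hd => by
      rw [Nat.card_perm, hs.dvd_factorial] at hd
      have := hs.two_le
      omega
    refine Group.isSolvable_of_isSolvable_injective
      (f := (resHom φ (fun y => ¬ P y) fun h y => (hP h y).not).comp ψ.ker.subtype)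
      ((injective_iff_map_eq_one _).mpr fun h hh => Subtype.ext (hφ ?_))
    rw [OneMemClass.coe_one, map_one]
    exact Equiv.ext fun y => (em (P y)).elim (resHom_eq_one.mp h.2 y) ((resHom_eq_one (hP := fun h y => (hP h y).not)).mp hh y)
  by_cases h4 : Nat.card {y // P y} = 5
  · exact (equiv_of_five hns hψ h4).imp (fun h => ⟨5, le_rfl, by norm_num, h⟩) .inl
  by_cases h6 : Nat.card {y // P y} = 6
  · rcases equiv_of_six hns hψ h6 with (h | h) | h | h
    exacts [.inl ⟨5, le_rfl, by norm_num, h⟩, .inr (.inl h), .inl ⟨6, by norm_num, by norm_num, h⟩, .inr (.inr h)]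
  haveI : IsPretransitive ψ.range {y // P y} := ⟨by
    rintro ⟨_, h, rfl⟩ ⟨_, k, rfl⟩
    exact ⟨⟨_, k * h⁻¹, rfl⟩, Subtype.ext (by change φ (k * h⁻¹) (φ h x) = φ k x; simp)⟩⟩
  haveI : Subsingleton {y // ¬ P y} := Finite.card_le_one_iff_subsingleton.mp (by omega)
  refine .inl ⟨_, h2, by omega, equiv_of_range_eq hψ (eq_alt_of_five ?_ ⟨c, rfl⟩
    (by rw [orderOf_injective ψ hψ, hc]) (by omega)) rfl⟩
  rintro _ ⟨h, rfl⟩
  rw [Perm.mem_alternatingGroup, ← hA h]
  refine Perm.sign_subtypePerm (φ h) (hP h) fun y hy => by_contra fun h7 => hy ?_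
  exact congrArg Subtype.val (Subsingleton.elim (⟨φ h y, (hP h y).not.mpr h7⟩ : {y // ¬ P y}) ⟨y, h7⟩)

end Cfsg.Agent.Lib.Forms
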