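import Cfsg.Agent.Lib.Invol.CoxeterA

/-! The isomorphism `A₈ ≅ GL₄(2)`. -/

set_option autoImplicit false

namespace Cfsg.Agent.Lib.Forms

open Equiv Cfsg.Agent.Lib.Invol

def a8Mat : Fin 7 → Matrix (Fin 4) (Fin 4) (ZMod 2) :=
  ![!![1, 0, 0, 0; 0, 1, 0, 0; 0, 0, 1, 0; 0, 0, 0, 1], !![1, 0, 0, 1; 0, 1, 1, 0; 0, 1, 0, 0; 1, 0, 0, 0],
    !![0, 0, 1, 1; 0, 0, 0, 1; 1, 1, 0, 0; 0, 1, 0, 0], !![0, 0, 0, 1; 0, 0, 1, 0; 0, 1, 0, 0; 1, 0, 0, 0],
    !![1, 0, 0, 1; 0, 1, 0, 0; 0, 1, 1, 0; 0, 0, 0, 1], !![0, 0, 0, 1; 0, 0, 1, 1; 1, 1, 0, 0; 1, 0, 0, 0],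
    !![0, 0, 1, 0; 0, 0, 0, 1; 1, 0, 0, 0; 0, 1, 0, 0]]

def a8Inv (i : Fin 7) : Matrix (Fin 4) (Fin 4) (ZMod 2) := if i = 1 then a8Mat 1 * a8Mat 1 else a8Mat i

def a8GL (i : Fin 7) : GL (Fin 4) (ZMod 2) :=
  ⟨a8Mat i, a8Inv i, by revert i; decide +kernel, by revert i; decide +kernel⟩

def a8W (i : Fin 7) : RegularWreathProduct (GL (Fin 4) (ZMod 2)) ℤˣ :=
  ⟨fun u => if u = 1 then a8GL i else (a8GL i)⁻¹, -1⟩

theorem wreath_ext {x y : RegularWreathProduct (GL (Fin 4) (ZMod 2)) ℤˣ}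
    (h : x.right = y.right ∧ (x.left 1).1 = (y.left 1).1 ∧ (x.left (-1)).1 = (y.left (-1)).1) : x = y :=
  RegularWreathProduct.ext (funext fun u => Units.ext (by
    rcases Int.units_eq_one_or u with rfl | rfl
    exacts [h.2.1, h.2.2])) h.1

theorem card_GL_four_two : Nat.card (GL (Fin 4) (ZMod 2)) = 20160 := by
  rw [Matrix.card_GL_field]; decide +kernel

theorem card_GL_three_two : Nat.card (GL (Fin 3) (ZMod 2)) = 168 := by
  rw [Matrix.card_GL_field]; decide +kernel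

set_option synthInstance.maxSize 2000 in
theorem nonempty_A8_equiv_GL : Nonempty (alternatingGroup (Fin 8) ≃* GL (Fin 4) (ZMod 2)) := by
  have hc : CoxRel (fun i => a8W (Fin.ofNat 7 i)) 7 := by
    refine ⟨fun i _ => wreath_ext ?_, fun i j h1 h2 => wreath_ext ?_, fun i hi => wreath_ext ?_⟩
    · generalize Fin.ofNat 7 i = k
      revert k; decide +kernel
    · have : i < 7 := by omega
      revert h1; revert j; revert i; decide +kernel
    · have : i < 7 := by omega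
      revert hi; revert i; decide +kernel
  obtain ⟨φ, hφ⟩ := exists_hom_perm_of_coxRel hc
  have h1 : ∀ σ, (φ σ).right = Perm.sign σ := fun σ => by
    have : σ ∈ Submonoid.closure (Set.range fun i : Fin 7 => swap i.castSucc i.succ) := by
      rw [Perm.mclosure_swap_castSucc_succ]; trivial
    induction this using Submonoid.closure_induction with
    | mem x hx =>
      obtain ⟨i, rfl⟩ := hx
      rw [hφ, Perm.sign_swap Fin.castSucc_lt_succ.ne]; rfl
    | one => simp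
    | mul x y _ _ hx hy => simp [hx, hy]
  let ψ : alternatingGroup (Fin 8) →* GL (Fin 4) (ZMod 2) := MonoidHom.mk' (fun σ => (φ σ).left 1) fun σ τ => by
    simp [h1, Perm.mem_alternatingGroup.mp σ.2]
  haveI := alternatingGroup.isSimpleGroup (α := Fin 8) (by simp)
  have h2 : Function.Injective ψ := by
    rw [← MonoidHom.ker_eq_bot_iff]
    refine (Subgroup.Normal.eq_bot_or_eq_top inferInstance).resolve_right fun h => ?_
    have h3 : ψ ⟨swap (0 : Fin 7).castSucc (0 : Fin 7).succ * swap (1 : Fin 7).castSucc (1 : Fin 7).succ,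
      by rw [Perm.mem_alternatingGroup]; decide⟩ = 1 := (h ▸ Subgroup.mem_top _ : _ ∈ ψ.ker)
    change (φ (_ * _)).left 1 = 1 at h3
    rw [map_mul, hφ, hφ] at h3
    exact absurd (congrArg Units.val h3) (by decide +kernel)
  refine ⟨MulEquiv.ofBijective ψ (h2.bijective_of_nat_card_le ?_)⟩
  rw [card_GL_four_two, nat_card_alternatingGroup]
  simp [Nat.factorial]

end Cfsg.Agent.Lib.Forms
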