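import Cfsg.Agent.Lib.Forms.OrthField2

/-!
# Symmetric composition algebras and related triples (principle of triality)
-/

set_option autoImplicit false
set_option linter.unusedSectionVars false
set_option maxHeartbeats 400000

namespace Cfsg.Agent.Lib.Forms

open Module QuadraticMap

variable {F V : Type*} [Field F] [AddCommGroup V] [Module F V] {Q : QuadraticForm F V}

/-- A symmetric composition on `(V, Q)` with a para-unit `u`. -/
structure SymComp (Q : QuadraticForm F V) where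
  μ : V →ₗ[F] V →ₗ[F] V
  nondeg : Nondeg Q
  norm : ∀ x y, Q (μ x y) = Q x * Q y
  assoc : ∀ x y z, polar Q (μ x y) z = polar Q x (μ y z)
  u : V
  Q_u : Q u = 1
  u_mul : ∀ x, μ u x = polar Q x u • u - x
  mul_u : ∀ x, μ x u = polar Q x u • u - x

namespace SymComp

variable (C : SymComp Q)

theorem cyc (x y z : V) : polar Q (C.μ x y) z = polar Q (C.μ y z) x := by rw [C.assoc, polar_comm]

theorem polar_right (x y z : V) : polar Q (C.μ x y) (C.μ x z) = Q x * polar Q y z := by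
  have := C.norm x (y + z)
  rw [map_add, Q_add, Q_add, C.norm, C.norm] at this
  linear_combination this

theorem polar_left (x y z : V) : polar Q (C.μ y x) (C.μ z x) = Q x * polar Q y z := by
  have := C.norm (y + z) x
  rw [map_add, LinearMap.add_apply, Q_add, Q_add, C.norm, C.norm] at this
  linear_combination this

theorem left (x y : V) : C.μ (C.μ x y) x = Q x • y :=
  C.nondeg.eq_of_polar fun z => by rw [C.assoc, C.polar_right, polar_smul_left, smul_eq_mul]

theorem right (x y : V) : C.μ x (C.μ y x) = Q x • y :=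
  C.nondeg.eq_of_polar fun z => by rw [C.cyc, C.cyc, C.polar_left, polar_smul_left, smul_eq_mul, polar_comm]

theorem left₂ (x x' y : V) : C.μ (C.μ x y) x' = polar Q x x' • y - C.μ (C.μ x' y) x := by
  have := C.left (x + x') y
  simp only [map_add, LinearMap.add_apply, C.left, Q_add, add_smul] at this
  linear_combination (norm := module) this

theorem right₂ (x x' y : V) : C.μ x (C.μ y x') = polar Q x x' • y - C.μ x' (C.μ y x) := by
  have := C.right (x + x') y
  simp only [map_add, LinearMap.add_apply, C.right, Q_add, add_smul] at this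
  linear_combination (norm := module) this

theorem moufang (a y z : V) : C.μ (C.μ z a) (C.μ a y) = polar Q (C.μ y z) a • a - Q a • C.μ y z := by
  rw [C.left₂, C.left, map_smul, LinearMap.smul_apply, ← C.assoc, C.cyc, C.cyc]

theorem moufang₂ (a b y z : V) : C.μ (C.μ z a) (C.μ b y) = polar Q (C.μ y z) a • b + polar Q (C.μ y z) b • a
    - polar Q a b • C.μ y z - C.μ (C.μ z b) (C.μ a y) := by
  have := C.moufang (a + b) y z
  simp only [map_add, LinearMap.add_apply, C.moufang, Q_add, add_smul, polar_add_right, smul_add] at this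
  linear_combination (norm := module) this

theorem moufang_refl {a : V} (ha : Q a ≠ 0) (y z : V) :
    C.μ (C.μ z a) (C.μ a y) = (-Q a) • (refl Q a).1 (C.μ y z) := by
  rw [C.moufang, refl_apply, smul_sub, smul_smul]
  have : -Q a * ((Q a)⁻¹ * polar Q (C.μ y z) a) = -polar Q (C.μ y z) a := by field_simp
  rw [this]; module

theorem eq_zero_of_left {x : V} (h : ∀ y, C.μ x y = 0) : x = 0 := by
  have := C.right C.u x
  rw [h, map_zero, C.Q_u, one_smul] at this
  exact this.symm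

theorem eq_zero_of_right {x : V} (h : ∀ y, C.μ y x = 0) : x = 0 := by
  have := C.left C.u x
  rw [h, map_zero, LinearMap.zero_apply, C.Q_u, one_smul] at this
  exact this.symm

/-- Left multiplication by a nonsingular vector. -/
def LS (a : V) (ha : Q a ≠ 0) : Semi Q :=
  Semi.ofSimil (LinearEquiv.ofLinear (C.μ a) ((Q a)⁻¹ • C.μ.flip a)
    (by ext y; simp [C.right, ha]) (by ext y; simp [C.left, ha])) (Units.mk0 _ ha) (C.norm a)

/-- Right multiplication by a nonsingular vector. -/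
def RS (a : V) (ha : Q a ≠ 0) : Semi Q :=
  Semi.ofSimil (LinearEquiv.ofLinear (C.μ.flip a) ((Q a)⁻¹ • C.μ a)
    (by ext y; simp [C.left, ha]) (by ext y; simp [C.right, ha])) (Units.mk0 _ ha)
    fun v => by simpa [mul_comm] using C.norm v a

@[simp] theorem LS_e (a : V) (ha : Q a ≠ 0) (y : V) : (C.LS a ha).e y = C.μ a y := rfl
@[simp] theorem RS_e (a : V) (ha : Q a ≠ 0) (y : V) : (C.RS a ha).e y = C.μ y a := rfl
@[simp] theorem LS_σ (a : V) (ha : Q a ≠ 0) : (C.LS a ha).σ = 1 := rfl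
@[simp] theorem RS_σ (a : V) (ha : Q a ≠ 0) : (C.RS a ha).σ = 1 := rfl
@[simp] theorem LS_c (a : V) (ha : Q a ≠ 0) : ((C.LS a ha).c : F) = Q a := rfl
@[simp] theorem RS_c (a : V) (ha : Q a ≠ 0) : ((C.RS a ha).c : F) = Q a := rfl

/-- Related triples. -/
structure Rel3 (s₁ s₂ s₃ : Semi Q) : Prop where
  σ₁ : s₁.σ = s₃.σ
  σ₂ : s₂.σ = s₃.σ
  ex : ∃ l : F, l ≠ 0 ∧ ∀ x y, C.μ (s₁.e x) (s₂.e y) = l • s₃.e (C.μ x y)

namespace Rel3

variable {C} {s₁ s₂ s₃ t₁ t₂ t₃ : Semi Q}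

theorem one : C.Rel3 1 1 1 := ⟨rfl, rfl, 1, one_ne_zero, by simp⟩

theorem mul (h : C.Rel3 s₁ s₂ s₃) (k : C.Rel3 t₁ t₂ t₃) : C.Rel3 (s₁ * t₁) (s₂ * t₂) (s₃ * t₃) := by
  obtain ⟨h1, h2, l, hl, h3⟩ := h
  obtain ⟨k1, k2, m, hm, k3⟩ := k
  refine ⟨by simp [h1, k1], by simp [h2, k2], l * s₃.σ m, mul_ne_zero hl ((_root_.map_ne_zero _).mpr hm),
    fun x y => ?_⟩
  simp only [Semi.mul_e, h3, k3, Semi.map_smul, smul_smul]

theorem inv (h : C.Rel3 s₁ s₂ s₃) : C.Rel3 s₁⁻¹ s₂⁻¹ s₃⁻¹ := by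
  obtain ⟨h1, h2, l, hl, h3⟩ := h
  refine ⟨by simp [h1], by simp [h2], (s₃.σ⁻¹ : F ≃+* F) l⁻¹, (_root_.map_ne_zero _).mpr (inv_ne_zero hl),
    fun x y => s₃.e.injective ?_⟩
  have := h3 ((s₁⁻¹).e x) ((s₂⁻¹).e y)
  rw [Semi.e_inv_e, Semi.e_inv_e] at this
  rw [Semi.map_smul, Semi.σ_inv_σ, Semi.e_inv_e, this, smul_smul, inv_mul_cancel₀ hl, one_smul]

theorem cyc (h : C.Rel3 s₁ s₂ s₃) : C.Rel3 s₂ s₃ s₁ := by
  obtain ⟨h1, h2, l, hl, h3⟩ := h
  refine ⟨h2.trans h1.symm, h1.symm, l * s₃.c * (s₁.c : F)⁻¹, by simp [hl], fun y z => ?_⟩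
  refine C.nondeg.eq_of_polar fun x => ?_
  obtain ⟨x, rfl⟩ := s₁.e.surjective x
  rw [← C.cyc, h3, polar_smul_left, polar_smul_left, Semi.map_polar, Semi.map_polar, C.cyc x, h1]
  have := s₁.c.ne_zero
  simp only [smul_eq_mul]
  field_simp

theorem conj (h : C.Rel3 s₁ s₂ s₃) (k : C.Rel3 t₁ t₂ t₃) :
    C.Rel3 (s₁ * t₁ * s₁⁻¹) (s₂ * t₂ * s₂⁻¹) (s₃ * t₃ * s₃⁻¹) := (h.mul k).mul h.inv

theorem scal (a b c : Fˣ) : C.Rel3 (Semi.scal Q a) (Semi.scal Q b) (Semi.scal Q c) :=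
  ⟨rfl, rfl, a * b * (c : F)⁻¹, by simp, fun x y => by
    simp only [Semi.scal_e, map_smul, LinearMap.smul_apply, smul_smul]
    congr 1
    have := c.ne_zero
    field_simp⟩

theorem refl_pair {a b : V} (ha : Q a ≠ 0) (hb : Q b ≠ 0) :
    C.Rel3 (C.RS a ha * C.LS b hb) (C.LS a ha * C.RS b hb) (Semi.ofOG Q (refl Q a * refl Q b)) :=
  ⟨by simp, by simp, Q a * Q b, mul_ne_zero ha hb, fun x y => by
    simp only [Semi.mul_e, RS_e, LS_e, Semi.ofOG_e, OG.mul_apply]
    rw [C.moufang_refl ha, C.moufang_refl hb, map_smul, smul_smul]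
    congr 1; ring⟩

theorem of_aut {s : Semi Q} (h : ∀ x y, s.e (C.μ x y) = C.μ (s.e x) (s.e y)) : C.Rel3 s s s :=
  ⟨rfl, rfl, 1, one_ne_zero, fun x y => by rw [one_smul, h]⟩

theorem c_rel (h : C.Rel3 s₁ s₂ s₃) : ∃ l : F, l ≠ 0 ∧ (s₁.c : F) * s₂.c = l * l * s₃.c := by
  obtain ⟨h1, h2, l, hl, h3⟩ := h
  refine ⟨l, hl, ?_⟩
  have := congrArg Q (h3 C.u C.u)
  rw [C.norm, Q_smul, Semi.map_Q, Semi.map_Q, Semi.map_Q, C.norm, C.Q_u] at this
  simpa using this

end Rel3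

theorem refl_u (x : V) : (refl Q C.u).1 x = -C.μ C.u x := by
  rw [refl_apply, C.u_mul, C.Q_u]; simp

theorem refl_u_mul (x y : V) : C.μ ((refl Q C.u).1 x) ((refl Q C.u).1 y) = -(refl Q C.u).1 (C.μ y x) := by
  have := C.moufang_refl (a := C.u) (by simp [C.Q_u]) y x
  rw [C.mul_u, ← C.u_mul, C.Q_u] at this
  rw [C.refl_u, C.refl_u, map_neg, map_neg, LinearMap.neg_apply, neg_neg, this, neg_smul, one_smul]

/-- The reflection in the para-unit. -/
def ρ : Semi Q := Semi.ofOG Q (refl Q C.u)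

theorem ρ_mul_self : C.ρ * C.ρ = 1 := by rw [ρ, ← map_mul, refl_mul_self, map_one]

theorem Rel3.swap {s₁ s₂ s₃ : Semi Q} (h : C.Rel3 s₁ s₂ s₃) :
    C.Rel3 (C.ρ * s₂ * C.ρ) (C.ρ * s₁ * C.ρ) (C.ρ * s₃ * C.ρ) := by
  obtain ⟨h1, h2, l, hl, h3⟩ := h
  refine ⟨by simp [ρ, h2], by simp [ρ, h1], l, hl, fun x y => ?_⟩
  simp only [ρ, Semi.mul_e, Semi.ofOG_e]
  rw [C.refl_u_mul, h3, C.refl_u_mul]
  simp

/-- The first triality image of an Eichler transformation. -/
def eichR {e : V} (he : Q e = 0) {w : V} (hw : polar Q e w = 0) : OG Q :=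
  ⟨LinearEquiv.ofLinear (LinearMap.id + C.μ.flip w ∘ₗ C.μ e) (LinearMap.id - C.μ.flip w ∘ₗ C.μ e)
    (by ext x; simp [C.right₂ e w, C.left, he, hw]) (by ext x; simp [C.right₂ e w, C.left, he, hw]), fun x => by
      change Q (x + C.μ (C.μ e x) w) = Q x
      rw [Q_add, C.norm, C.norm, he, polar_comm, C.assoc, C.polar_left, hw]
      simp⟩

/-- The second triality image of an Eichler transformation. -/
def eichL {e : V} (he : Q e = 0) {w : V} (hw : polar Q e w = 0) : OG Q :=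
  ⟨LinearEquiv.ofLinear (LinearMap.id + C.μ w ∘ₗ C.μ.flip e) (LinearMap.id - C.μ w ∘ₗ C.μ.flip e)
    (by ext x; simp [C.left₂ w e, C.right, he, hw, polar_comm Q w e])
    (by ext x; simp [C.left₂ w e, C.right, he, hw, polar_comm Q w e]), fun x => by
      change Q (x + C.μ w (C.μ x e)) = Q x
      rw [Q_add, C.norm, C.norm, he, ← C.assoc, C.polar_right, polar_comm, hw]
      simp⟩

theorem eichR_apply {e : V} (he : Q e = 0) {w : V} (hw : polar Q e w = 0) (x : V) :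
    (C.eichR he hw).1 x = x + C.μ (C.μ e x) w := rfl

theorem eichL_apply {e : V} (he : Q e = 0) {w : V} (hw : polar Q e w = 0) (x : V) :
    (C.eichL he hw).1 x = x + C.μ w (C.μ x e) := rfl

theorem rel3_eich {e : V} (he : Q e = 0) {w : V} (hw : polar Q e w = 0) :
    C.Rel3 (Semi.ofOG Q (C.eichR he hw)) (Semi.ofOG Q (C.eichL he hw)) (Semi.ofOG Q (eich Q e w)) :=
  ⟨rfl, rfl, 1, one_ne_zero, fun x y => by
    simp only [Semi.ofOG_e, eichR_apply, eichL_apply, eich_apply he hw, map_add, LinearMap.add_apply, one_smul]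
    rw [C.moufang w, C.moufang e, C.left₂ (C.μ e x) y w, C.right₂ x (C.μ y e) w, C.moufang₂ w e x y, he,
      ← C.assoc x y e, C.cyc e x y, polar_comm Q w e, hw]
    simp only [zero_smul, sub_zero, polar_smul_left, hw, smul_eq_mul, mul_zero]
    module⟩

end SymComp

end Cfsg.Agent.Lib.Forms
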