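import Cfsg.Agent.Lib.Forms.OrthTri

/-!
# The triality automorphism of `PΩ⁺₈`
-/

set_option autoImplicit false
set_option linter.unusedSectionVars false
set_option maxHeartbeats 400000

namespace Cfsg.Agent.Lib.Forms

open Module QuadraticMap Cfsg.Agent.Lib.Aut
open scoped commutatorElement

theorem exists_conj_aut {R T : Type*} [Group R] [Group T] (f g : R →* MulAut T)
    (hT : Function.Injective (MulAut.conj : T →* MulAut T)) (hker : ∀ r, f r = 1 ↔ g r = 1)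
    (hinn : ∀ r, f r ∈ Cfsg.Inn T ↔ g r ∈ Cfsg.Inn T) (hf : ∀ t, ∃ r, f r = MulAut.conj t)
    (hg : ∀ t, ∃ r, g r = MulAut.conj t) : ∃ τ : MulAut T, ∀ r, τ * f r * τ⁻¹ = g r := by
  have hk : ∀ r r', f r = f r' ↔ g r = g r' := fun r r' => by
    rw [← mul_inv_eq_one, ← map_inv, ← map_mul, hker, map_mul, map_inv, mul_inv_eq_one]
  choose ρ hρ using hf
  have h1 : ∀ t, ∃ t', MulAut.conj t' = g (ρ t) := fun t => (hinn _).mp ⟨t, (hρ t).symm⟩
  choose τ hτ using h1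
  have key : ∀ r t t', f r = MulAut.conj t → g r = MulAut.conj t' → τ t = t' := fun r t t' a b =>
    hT (by rw [hτ, ← b, ← hk, hρ, a])
  let τ' : T →* T := MonoidHom.mk' τ fun a b => key (ρ a * ρ b) _ _ (by simp [hρ]) (by simp [hτ])
  have hb : Function.Bijective τ' := ⟨fun a b h => hT (by
      rw [← hρ, ← hρ, hk, ← hτ, ← hτ]; exact congrArg _ h), fun t' => by
    obtain ⟨r, hr⟩ := hg t'
    obtain ⟨t, ht⟩ := (hinn r).mpr ⟨t', hr.symm⟩
    exact ⟨t, key r t t' ht.symm hr⟩⟩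
  refine ⟨MulEquiv.ofBijective τ' hb, fun r => ?_⟩
  rw [mul_inv_eq_iff_eq_mul]
  refine MulEquiv.ext fun t => ?_
  have c : ∀ (α : MulAut T) (t : T), MulAut.conj (α t) = α * MulAut.conj t * α⁻¹ := fun α t => by
    ext x; simp
  exact key (r * ρ t * r⁻¹) (f r t) (g r (τ t)) (by rw [c, map_mul, map_mul, map_inv, hρ])
    (by rw [map_mul, map_mul, map_inv, ← hτ, ← c])

theorem eq_of_conj_inn {T : Type*} [Group T] (hT : Function.Injective (MulAut.conj : T →* MulAut T))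
    {α β : MulAut T} (h : ∀ t, α * MulAut.conj t * α⁻¹ = β * MulAut.conj t * β⁻¹) : α = β := by
  have c : ∀ (α : MulAut T) (t : T), MulAut.conj (α t) = α * MulAut.conj t * α⁻¹ := fun α t => by
    ext x; simp
  ext t
  exact hT (by rw [c, c, h])

variable {F V : Type*} [Field F] [AddCommGroup V] [Module F V] {Q : QuadraticForm F V} [FiniteDimensional F V]
  [Finite F]

theorem IsRoot.cj {r : OG Q} (h : IsRoot r) (s : Semi Q) : IsRoot (Semi.cj Q s r) := by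
  obtain ⟨e, w, he, hw, hew, hl, rfl⟩ := h
  refine ⟨s.e e, (s.c : F)⁻¹ • s.e w, (s.Q_eq_zero_iff e).mpr he, by simp [Q_smul, (s.Q_eq_zero_iff w).mpr hw],
    by simp [(s.polar_eq_zero_iff e w).mpr hew], ?_, Semi.cj_eich s he hew⟩
  have := s.li_pair_map hl
  rw [li_pair_iff] at this ⊢
  intro a b hab
  rw [smul_smul] at hab
  simpa using this _ _ hab

theorem e_mem_resSp_cj (s : Semi Q) {g : OG Q} {y : V} (hy : y ∈ resSp g) : s.e y ∈ resSp (Semi.cj Q s g) := by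
  obtain ⟨x, rfl⟩ := mem_resSp.mp hy
  exact mem_resSp.mpr ⟨s.e x, by rw [Semi.cj_apply_e, map_sub]⟩

theorem Meets.cj {r t : OG Q} (h : Meets r t) (s : Semi Q) : Meets (Semi.cj Q s r) (Semi.cj Q s t) := by
  obtain ⟨x, hx, h1, h2⟩ := h
  exact ⟨s.e x, mt (s.e_eq_zero_iff x).mp hx, e_mem_resSp_cj s h1, e_mem_resSp_cj s h2⟩

theorem Om_le_commutator_SO (hQ : Nondeg Q) (hN : NonExc Q) (h5 : 5 ≤ finrank F V) :
    Om Q ≤ ⁅(hQ.dickHom hN).ker, (hQ.dickHom hN).ker⁆ := by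
  classical
  set K := ⁅(hQ.dickHom hN).ker, (hQ.dickHom hN).ker⁆ with hK
  let π := QuotientGroup.mk' K
  have h1 : ∀ a b, Q a ≠ 0 → Q b ≠ 0 → Commute (π (refl Q a)) (π (refl Q b)) := fun a b ha hb => by
    obtain ⟨v, hv, hv0⟩ := hQ.exists_Q_ne_zero_perp (U := Submodule.span F {a, b}) (by
      have := finrank_span_le_card (R := F) ({a, b} : Set V)
      have h2 : ({a, b} : Set V).toFinset.card ≤ 2 := by simpa using Finset.card_le_two
      omega)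
    have hc : ∀ x, polar Q x v = 0 → Commute (refl Q v) (refl Q x) := fun x hx => by
      have := conj_refl (refl Q v) x
      rwa [refl_of_polar_eq_zero hx, mul_inv_eq_iff_eq_mul] at this
    have ha' := hc a (mem_perp_span.mp hv _ (by simp))
    have hb' := hc b (mem_perp_span.mp hv _ (by simp))
    have hm : ∀ x, Q x ≠ 0 → refl Q x * refl Q v ∈ (hQ.dickHom hN).ker := fun x hx => by
      change dick _ = 1
      rw [hQ.dick_refl_mul hx, hQ.dick_refl hv0, neg_neg]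
    have := Subgroup.commutator_mem_commutator (hm a ha) (hm b hb)
    rw [← commutatorElement_eq_one_iff_commute, ← map_commutatorElement]
    refine (QuotientGroup.eq_one_iff _).mpr ?_
    convert this using 1
    simp only [commutatorElement_def, mul_inv_rev, refl_inv]
    have e := refl_mul_self (Q := Q) v
    calc refl Q a * refl Q b * refl Q a * refl Q b
        = refl Q a * refl Q b * (refl Q v * refl Q v) * refl Q a * (refl Q v * refl Q v) * refl Q b := by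
          simp [e]
      _ = _ := by
          simp only [mul_assoc]
          rw [← mul_assoc (refl Q b) (refl Q v), ← hb'.eq, ← mul_assoc (refl Q a) (refl Q v) (refl Q v * _), ← ha'.eq]
          simp only [mul_assoc]
  have h2 : ∀ b, Q b ≠ 0 → ∀ g, Commute (π g) (π (refl Q b)) := fun b hb =>
    hQ.refl_induction hN _ (by simp) fun a ha g hg => by rw [map_mul]; exact (h1 a b ha hb).mul_left hg
  have h3 : ∀ g h, Commute (π g) (π h) := fun g =>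
    hQ.refl_induction hN _ (by simp) fun a ha h hh => by rw [map_mul]; exact (h2 a ha g).mul_right hh
  refine Subgroup.commutator_le.mpr fun g _ h _ => (QuotientGroup.eq_one_iff (N := K) _).mp ?_
  change π _ = 1
  rw [map_commutatorElement, commutatorElement_eq_one_iff_commute]
  exact h3 g h

theorem comm_mem_NO_of_par (hQ : Nondeg Q) (hN : NonExc Q) {U : Submodule F V} (hU : IsLag Q U) {s t : Semi Q}
    (hs : s.σ = 1) (ht : t.σ = 1) (hs1 : par s = 1) (ht1 : par t = 1) : s * t * s⁻¹ * t⁻¹ ∈ NO Q := by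
  have k : ∀ s t : Semi Q, s.σ = 1 → par s = 1 → Semi.sc Q s = 1 → t.σ = 1 → s * t * s⁻¹ * t⁻¹ ∈ NO Q := by
    intro s t hs hs1 hs2 ht
    obtain ⟨a, g, rfl⟩ := Semi.exists_scal_mul hs (sqc_eq_one_iff.mp hs2)
    rw [par_mul hQ hN, par_scal hQ hN, one_mul, par_ofOG hQ hN hU] at hs1
    have e : Semi.scal Q a * Semi.ofOG Q g * t * (Semi.scal Q a * Semi.ofOG Q g)⁻¹ * t⁻¹ =
        Semi.ofOG Q (g * Semi.cj Q t g⁻¹) := by
      rw [map_mul, Semi.ofOG_cj, ← Semi.scal_comm rfl, mul_assoc _ _ t, ← Semi.scal_comm ht, map_inv]; group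
    rw [e]
    refine ofOG_mem_NO ((hQ.mem_Om_iff hN _).mpr ?_)
    have hi : dick g⁻¹ = 1 := by rw [← hs1]; exact (map_inv (hQ.dickHom hN) g).trans (Int.units_inv_eq_self _)
    have hj : spin g⁻¹ = spin g := (map_inv (hQ.spinHom hN) g).trans (Int.units_inv_eq_self _)
    rw [hQ.dick_mul hN, hQ.spin_mul hN, (hQ.dick_spin_cj hN t _).1, (hQ.dick_spin_cj hN t _).2, hi, hs1, hj]
    simp
  rcases Int.units_eq_one_or (Semi.sc Q s) with h1 | h1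
  · exact k s t hs hs1 h1 ht
  rcases Int.units_eq_one_or (Semi.sc Q t) with h2 | h2
  · simpa [mul_assoc] using inv_mem (k t s ht ht1 h2 hs)
  have := k (s * t⁻¹) t (by simp [hs, ht]) (by
    rw [← parHom_apply hQ hN, map_mul, map_inv, parHom_apply, parHom_apply, hs1, ht1]; rfl) (by simp [h1, h2]) ht
  convert this using 1
  group

namespace GoodRel

variable {R : OG Q → OG Q → Prop} (hR : GoodRel R)
include hR

theorem resSp_le (hQ : Nondeg Q) (h7 : 7 ≤ finrank F V) {s t s' t' : OG Q} (hs : IsRoot s) (ht : IsRoot t)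
    (hs' : IsRoot s') (ht' : IsRoot t') (h1 : R s s') (h2 : R t t') (h : resSp s = resSp t) :
    resSp t' ≤ resSp s' := by
  have k : ∀ u u', IsRoot u → IsRoot u' → R u u' → Adj u' s' → Orth u' t' := fun u u' hu hu' h3 h4 => by
    have h5 := (hQ.adj_iff hu hs).mp (hR.flip.adj h7 hu hs h3 h1 h4)
    refine ((hQ.adj_iff hu' ht').mp (hR.adj h7 hu' ht' h3 h2 ((hQ.adj_iff hu ht).mpr ?_))).2
    unfold Meets Orth at h5 ⊢
    rwa [h] at h5
  have hs'' := hs'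
  obtain ⟨x, y, hx, hy, hxy, hl, rfl⟩ := hs'
  have hr := hQ.resSp_eich hx hxy hl
  have k0 : Orth (eich Q x y) t' := k s _ hs hs'' h1 ((hQ.adj_iff hs'' hs'').mpr
    ⟨⟨x, li_pair_left hl, hr ▸ Submodule.subset_span (by simp), hr ▸ Submodule.subset_span (by simp)⟩,
      fun _ a _ b => hs''.polar_eq_zero a b⟩)
  obtain ⟨e0, f0, h0⟩ := hQ.exists_hypSys 3 h7
  obtain ⟨e, f, hh, rfl, rfl⟩ := hQ.exists_hypSys_pair h0 hx hy hxy hl
  intro z hz
  rw [hr]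
  refine hQ.mem_span_of_perp fun w hw => ?_
  refine ts_induction (U := perp Q (Submodule.span F {e 0, e 1})) (x := e 2) (y := f 2)
    (mem_perp_span.mpr (by simp [hh.ee])) (mem_perp_span.mpr (by simp [hh.ef])) (hh.qe _) (hh.qf _) (by simp [hh.ef])
    (fun w => polar Q z w = 0) (fun u v a b => by simp [a, b]) (fun u hu hQu => ?_) w (mem_perp_span.mpr hw)
  have hu0 := mem_perp_span.mp hu (e 0) (by simp)
  have hu1 := mem_perp_span.mp hu (e 1) (by simp)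
  rw [polar_comm]
  by_cases hc : ∀ c : F, u ≠ c • e 0
  · have hl' := li_pair_of_ne (li_pair_left hl) hc
    have hu' : IsRoot (eich Q (e 0) u) := ⟨_, _, hx, hQu, hu0, hl', rfl⟩
    obtain ⟨v, hv, h3⟩ := hR.root_right hu'
    refine k v _ hv hu' h3 ((hQ.adj_eich_iff (li_pair_left hl) hx hQu hy hu0 hxy).mpr (by rwa [polar_comm])) _ ?_ _ hz
    rw [hQ.resSp_eich hx hu0 hl']
    exact Submodule.subset_span (by simp)
  · push Not at hc
    obtain ⟨c, rfl⟩ := hc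
    exact k0 _ (by rw [hr]; exact Submodule.smul_mem _ _ (Submodule.subset_span (by simp))) _ hz

end GoodRel

theorem exists_triple_of_meets (hQ : Nondeg Q) (h7 : 7 ≤ finrank F V) {r s : OG Q} (hr : IsRoot r) (hs : IsRoot s)
    (hm : Meets r s) (ho : ¬ Orth r s) : ∃ (e f : Fin 3 → V) (c : F), IsHypSys Q e f ∧ c ≠ 0 ∧
      r = eich Q (e 0) (e 1) ∧ s = eich Q (e 0) (c • f 1) := by
  obtain ⟨x, hx0, h1, h2⟩ := hm
  obtain ⟨u, hu, rfl⟩ := hr.exists_eq_eich hQ hx0 h1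
  obtain ⟨v, hv, rfl⟩ := hs.exists_eq_eich hQ hx0 h2
  have hx := hr.ts x h1
  have hxu := hr.polar_eq_zero h1 hu
  have hxv := hs.polar_eq_zero h2 hv
  have hc : polar Q u v ≠ 0 := fun h =>
    ho ((hQ.adj_iff hr hs).mp ((hQ.adj_eich_iff hx0 hx (hr.ts u hu) (hs.ts v hv) hxu hxv).mpr h)).2
  obtain ⟨e0, f0, h0⟩ := hQ.exists_hypSys 3 h7
  obtain ⟨e, f, hh, rfl, rfl, h3⟩ := hQ.exists_hypSys_triple h0 (z := (polar Q u v)⁻¹ • v) hx0 hx (hr.ts u hu)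
    (by simp [Q_smul, hs.ts v hv]) hxu (by simp [hxv]) (by simp [hc])
  exact ⟨e, f, _, hh, hc, rfl, by rw [h3, smul_smul, mul_inv_cancel₀ hc, one_smul]⟩

theorem IsHypSys.exists_Om_map (hQ : Nondeg Q) (h7 : 7 ≤ finrank F V) {e f e' f' : Fin 3 → V} (h : IsHypSys Q e f)
    (h' : IsHypSys Q e' f') : ∃ g ∈ Om Q, g.1 (e 0) = e' 0 ∧ g.1 (e 1) = e' 1 ∧ g.1 (f 1) = f' 1 := by
  have hN := hQ.nonExc_of_finrank (by omega)
  obtain ⟨g, hg⟩ := hQ.witt_family _ _ h.linearIndependent h'.linearIndependent (by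
    rintro (i | i) (j | j) <;> simp [h.ee, h.ef, h.fe, h.ff, h'.ee, h'.ef, h'.fe, h'.ff]) (by
    rintro (i | i) <;> simp [h.qe, h.qf, h'.qe, h'.qf])
  obtain ⟨v, hv, hv0⟩ := h.exists_Q_ne_zero_compl hQ (by simp; omega)
  have hef : polar Q (e 2) (f 2) = 1 := by simp [h.ef]
  obtain ⟨t, ⟨ht1, ht2, ht3⟩, ht⟩ := hQ.exists_mul_mem_Om hN
    (fun t => t.1 (e 0) = e 0 ∧ t.1 (e 1) = e 1 ∧ t.1 (f 1) = f 1)
    (fun s t hs ht => by rw [OG.mul_apply, OG.mul_apply, OG.mul_apply, ht.1, ht.2.1, ht.2.2]; exact hs)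
    ⟨refl Q v, ⟨refl_of_polar_eq_zero (hv.1 _), refl_of_polar_eq_zero (hv.1 _), refl_of_polar_eq_zero (hv.2 _)⟩,
      hQ.dick_refl hv0⟩
    (fun c hc => ⟨torus Q (e 2) (f 2) c, by
      refine ⟨?_, ?_, ?_⟩ <;> rw [torus_apply (h.qe _) (h.qf _) hef hc] <;> simp [h.ee, h.ef, h.fe, h.ff],
      hQ.dick_torus (h.qe _) (h.qf _) hef hc, hQ.spin_torus (h.qe _) (h.qf _) hef hc⟩) g
  exact ⟨g * t, ht, by rw [OG.mul_apply, ht1]; exact hg (.inl 0), by rw [OG.mul_apply, ht2]; exact hg (.inl 1),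
    by rw [OG.mul_apply, ht3]; exact hg (.inr 1)⟩

theorem GoodRel.meetsPres_of_pair {R : OG Q → OG Q → Prop} (hR : GoodRel R) (hQ : Nondeg Q) (h7 : 7 ≤ finrank F V)
    (hΩ : ∀ g ∈ Om Q, ∃ g', R g g') {r₀ s₀ r₀' s₀' : OG Q} (hr₀ : IsRoot r₀) (hs₀ : IsRoot s₀) (hr₀' : IsRoot r₀')
    (hs₀' : IsRoot s₀') (h1 : R r₀ r₀') (h2 : R s₀ s₀') (hm : Meets r₀ s₀) (ho : ¬ Orth r₀ s₀)
    (hm' : Meets r₀' s₀') : MeetsPres R := by
  intro r r' s s' hr hr' hs hs' h3 h4 h5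
  by_cases h6 : Orth r s
  · exact ((hQ.adj_iff hr' hs').mp (hR.adj h7 hr' hs' h3 h4 ((hQ.adj_iff hr hs).mpr ⟨h5, h6⟩))).1
  obtain ⟨e₀, f₀, c₀, hh₀, hc₀, rfl, rfl⟩ := exists_triple_of_meets hQ h7 hr₀ hs₀ hm ho
  obtain ⟨e, f, c, hh, hc, rfl, rfl⟩ := exists_triple_of_meets hQ h7 hr hs h5 h6
  obtain ⟨g, hg, g1, g2, g3⟩ := hh₀.exists_Om_map hQ h7 hh
  obtain ⟨g', hg'⟩ := hΩ g hg
  have k1 := hR.conj hg' h1
  have k2 := hR.conj hg' h2
  rw [conj_eich _ (hh₀.qe _) (hh₀.ee _ _), g1, g2] at k1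
  have k3 := hs₀.conj g
  rw [conj_eich _ (hh₀.qe _) (by simp [hh₀.ef]), g1, map_smul, g3] at k2 k3
  have k4 := hR.eq_of_rk h3 k1 (by have := hr'.rk_le; have := (hr₀'.conj g').rk_le; omega)
  have hl : ∀ c : F, c ≠ 0 → resSp (eich Q (e 0) (c • f 1)) = Submodule.span F {e 0, f 1} := fun c hc => by
    rw [← eich_smul_left (hh.qe _) (by simp [hh.ef])]
    have := hh.linearIndependent.comp ![.inl 0, .inr 1] (by decide)
    rw [hQ.resSp_eich (by simp [Q_smul, hh.qe]) (by simp [hh.ef]) (li_pair_iff.mpr fun a b hab => by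
      have h1 := congrArg (polar Q (f 0)) hab
      have h2 := congrArg (polar Q (e 1)) hab
      simpa [hh.fe, hh.ff, hh.ee, hh.ef, hc] using And.intro h1 h2)]
    simp only [Submodule.span_insert, Submodule.span_singleton_smul_eq hc.isUnit]
  have k5 := hR.resSp_le hQ h7 hs k3 hs' (hs₀'.conj g') h4 k2 (by rw [hl c hc, hl c₀ hc₀])
  obtain ⟨x, hx0, hx1, hx2⟩ := hm'
  exact ⟨g'.1 x, by simpa using hx0, k4 ▸ map_mem_resSp_conj g' hx1, k5 (map_mem_resSp_conj g' hx2)⟩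

namespace SymComp

variable (C : SymComp Q)

/-- The Lagrangian `x * V`. -/
def U (x : V) : Submodule F V := LinearMap.range (C.μ x)

theorem mem_U {x y : V} : y ∈ C.U x ↔ ∃ z, C.μ x z = y := Iff.rfl

theorem ts_U {x : V} (hx : Q x = 0) : ∀ v ∈ C.U x, Q v = 0 := by
  rintro _ ⟨z, rfl⟩
  rw [C.norm, hx, zero_mul]

theorem mul_eq_zero_of_mem_U {x y : V} (hx : Q x = 0) (hy : y ∈ C.U x) : C.μ y x = 0 := by
  obtain ⟨z, rfl⟩ := hy
  rw [C.left, hx, zero_smul]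

theorem U_inf_eq_bot {x y : V} (hx : Q x = 0) (hy : Q y = 0) (h : polar Q x y ≠ 0) : C.U x ⊓ C.U y = ⊥ := by
  rw [eq_bot_iff]
  rintro z ⟨h1, h2⟩
  have := C.right₂ x y z
  rw [C.mul_eq_zero_of_mem_U hx h1, C.mul_eq_zero_of_mem_U hy h2] at this
  simpa [h] using this.symm

theorem isLag_U {x : V} (hx0 : x ≠ 0) (hx : Q x = 0) : IsLag Q (C.U x) := by
  obtain ⟨y, hy, hxy⟩ := C.nondeg.exists_hyperbolic hx0 hx
  have h1 := C.nondeg.two_mul_finrank_le_of_ts (C.ts_U hx)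
  have h2 := C.nondeg.two_mul_finrank_le_of_ts (C.ts_U hy)
  have h3 : C.U x ⊔ C.U y = ⊤ := eq_top_iff.mpr fun z _ => Submodule.mem_sup.mpr
    ⟨_, ⟨C.μ z y, rfl⟩, _, ⟨C.μ z x, rfl⟩, by rw [C.right₂, hxy]; simp⟩
  have h4 := Submodule.finrank_sup_add_finrank_inf_eq (C.U x) (C.U y)
  rw [h3, finrank_top] at h4
  exact ⟨C.ts_U hx, by omega⟩

theorem U_smul {x : V} {c : F} (hc : c ≠ 0) : C.U (c • x) = C.U x := by
  rw [U, map_smul, LinearMap.range_smul _ _ hc]; rfl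

theorem lagPar_U (h8 : finrank F V = 8) {x y : V} (hx0 : x ≠ 0) (hx : Q x = 0) (hy0 : y ≠ 0) (hy : Q y = 0) :
    lagPar (C.U x) (C.U y) = 1 := by
  have hN := C.nondeg.nonExc_of_finrank (by omega)
  have k0 : ∀ x, x ≠ 0 → Q x = 0 → lagPar (C.U x) (C.U x) = 1 := fun x hx0 hx => by
    have := (C.isLag_U hx0 hx).dim
    rw [lagPar, inf_idem, show finrank F (C.U x) = 4 by omega]; rfl
  have k1 : ∀ x y, Q x = 0 → Q y = 0 → polar Q x y ≠ 0 → lagPar (C.U x) (C.U y) = 1 := fun x y hx hy h => by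
    rw [lagPar, C.U_inf_eq_bot hx hy h, finrank_bot, pow_zero]
  by_cases hxy : polar Q x y = 0
  swap
  · exact k1 x y hx hy hxy
  by_cases hc : ∀ c : F, y ≠ c • x
  swap
  · push Not at hc
    obtain ⟨c, rfl⟩ := hc
    rw [C.U_smul (by rintro rfl; simp at hy0), k0 x hx0 hx]
  obtain ⟨z, hz⟩ := C.nondeg.exists_polar_eq (li_pair_of_ne hx0 hc) ![1, 1]
  have h1 : polar Q x z = 1 := hz 0
  have h2 : polar Q y z = 1 := hz 1
  have h3 : polar Q x (z - Q z • x) = 1 := by simp [h1, polar_self', hx]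
  have h4 : polar Q y (z - Q z • x) = 1 := by simp [h2, polar_comm Q y x, hxy]
  have h5 : Q (z - Q z • x) = 0 := by simp [Q_sub, Q_smul, hx, polar_comm Q z x, h1]
  have h6 : z - Q z • x ≠ 0 := fun h => by simp [h] at h3
  rw [lagPar_cocycle C.nondeg hN (C.isLag_U hx0 hx) (C.isLag_U h6 h5) (C.isLag_U hy0 hy), k0 x hx0 hx,
    k1 _ _ hx h5 (by simp [h3]), k1 _ _ h5 hy (by rw [polar_comm, h4]; simp)]
  rfl

variable {C} {s₁ s₂ s₃ : Semi Q}

theorem Rel3.simg_U (h : C.Rel3 s₁ s₂ s₃) (x : V) : simg s₃ (C.U x) = C.U (s₁.e x) := by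
  obtain ⟨-, -, l, hl, h3⟩ := h
  ext y
  obtain ⟨y, rfl⟩ := s₃.e.surjective y
  rw [e_mem_simg]
  constructor
  · rintro ⟨z, rfl⟩
    exact ⟨l⁻¹ • s₂.e z, by rw [map_smul, h3, smul_smul, inv_mul_cancel₀ hl, one_smul]⟩
  · rintro ⟨z, hz⟩
    obtain ⟨z, rfl⟩ := s₂.e.surjective z
    rw [h3, ← s₃.σ_inv_σ l, ← s₃.map_smul, s₃.e.apply_eq_iff_eq] at hz
    exact hz ▸ Submodule.smul_mem _ _ ⟨z, rfl⟩

variable (Q) in
theorem exists_singular (h8 : finrank F V = 8) : ∃ x, x ≠ 0 ∧ Q x = 0 := by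
  obtain ⟨x, -, h1, h2⟩ := exists_singular_of_three_le Q ⊤ (by rw [finrank_top]; omega)
  exact ⟨x, h1, h2⟩

theorem Rel3.par₃ (h8 : finrank F V = 8) (h : C.Rel3 s₁ s₂ s₃) : par s₃ = 1 := by
  obtain ⟨x, hx0, hx⟩ := exists_singular Q h8
  rw [par_eq C.nondeg (C.nondeg.nonExc_of_finrank (by omega)) (C.isLag_U hx0 hx), h.simg_U,
    C.lagPar_U h8 hx0 hx hx0 hx, C.lagPar_U h8 hx0 hx (mt (s₁.e_eq_zero_iff x).mp hx0) ((s₁.Q_eq_zero_iff x).mpr hx)]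
  rfl

theorem Rel3.par₁ (h8 : finrank F V = 8) (h : C.Rel3 s₁ s₂ s₃) : par s₁ = 1 := h.cyc.par₃ h8

theorem Rel3.par₂ (h8 : finrank F V = 8) (h : C.Rel3 s₁ s₂ s₃) : par s₂ = 1 := h.cyc.cyc.par₃ h8

variable (C) in
theorem eq_smul_of_U (h8 : finrank F V = 8) {x y : V} (hx0 : x ≠ 0) (hx : Q x = 0) (hy : Q y = 0)
    (h : C.U x = C.U y) : ∃ c : F, y = c • x := by
  classical
  obtain ⟨u, hu, hu0⟩ := C.nondeg.exists_Q_ne_zero_perp (U := Submodule.span F {x, y}) (by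
    have := finrank_span_le_card (R := F) ({x, y} : Set V)
    have h2 : ({x, y} : Set V).toFinset.card ≤ 2 := by simpa using Finset.card_le_two
    omega)
  have h1 := mem_perp_span.mp hu x (by simp)
  have h2 := mem_perp_span.mp hu y (by simp)
  have h3 : ∀ z, C.μ (C.μ x z) y = 0 := fun z => C.mul_eq_zero_of_mem_U hy (h ▸ ⟨z, rfl⟩)
  have h4 : ∀ z, C.μ y (C.μ z x) = 0 := fun z => by
    obtain ⟨z, rfl⟩ := (C.LS u hu0).e.surjective z
    have := C.right₂ y u (C.μ x z)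
    rw [h3, h2, C.left₂ x u, h1] at this
    simpa using this
  refine C.nondeg.eq_smul_of_perp fun w hw => ?_
  by_contra hc
  refine hx0 (C.eq_zero_of_left fun z => ?_)
  have := C.right₂ y w (C.μ x z)
  rw [h3, C.left₂ x w, hw] at this
  simpa [h4, hc] using this.symm

theorem Rel3.scal₁ (h8 : finrank F V = 8) {a : Fˣ} (h : C.Rel3 s₁ s₂ (Semi.scal Q a)) : ∃ b, s₁ = Semi.scal Q b :=
  s₁.eq_scal_of_fix C.nondeg (by omega) fun x hx => by
    by_cases hx0 : x = 0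
    · exact ⟨0, by simp [hx0]⟩
    exact C.eq_smul_of_U h8 hx0 hx ((s₁.Q_eq_zero_iff x).mpr hx) (by rw [← h.simg_U, simg_scal])

variable (C) in
theorem exists_rel3_OG (h8 : finrank F V = 8) {g : OG Q} (hg : dick g = 1) :
    ∃ s₁ s₂, C.Rel3 s₁ s₂ (Semi.ofOG Q g) := by
  have hN := C.nondeg.nonExc_of_finrank (by omega)
  have hu : Q C.u ≠ 0 := by simp [C.Q_u]
  refine (C.nondeg.refl_induction hN (fun g => (dick g = 1 → ∃ s₁ s₂, C.Rel3 s₁ s₂ (Semi.ofOG Q g)) ∧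
    (dick g = -1 → ∃ s₁ s₂, C.Rel3 s₁ s₂ (Semi.ofOG Q (refl Q C.u * g)))) ⟨fun _ => ⟨1, 1, by
      rw [map_one]; exact .one⟩, fun h => absurd (dick_one.symm.trans h) (by decide)⟩ (fun v hv g ih => ?_) g).1 hg
  rw [C.nondeg.dick_refl_mul hv]
  constructor
  · intro h
    obtain ⟨s₁, s₂, k⟩ := ih.2 (neg_eq_iff_eq_neg.mp h)
    have := (Rel3.refl_pair (C := C) hv hu).mul k
    rw [← map_mul, mul_assoc (refl Q v), ← mul_assoc (refl Q C.u), refl_mul_self, one_mul] at this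
    exact ⟨_, _, this⟩
  · intro h
    obtain ⟨s₁, s₂, k⟩ := ih.1 (neg_injective h)
    have := (Rel3.refl_pair (C := C) hu hv).mul k
    rw [← map_mul, mul_assoc (refl Q C.u)] at this
    exact ⟨_, _, this⟩

variable (C) in
theorem exists_rel3_lin (h8 : finrank F V = 8) {s : Semi Q} (hs : s.σ = 1) (hp : par s = 1) :
    ∃ s₁ s₂, C.Rel3 s₁ s₂ s := by
  have hN := C.nondeg.nonExc_of_finrank (by omega)
  obtain ⟨x, hx0, hx⟩ := exists_singular Q h8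
  have k : ∀ s : Semi Q, s.σ = 1 → par s = 1 → Semi.sc Q s = 1 → ∃ s₁ s₂, C.Rel3 s₁ s₂ s := fun s hs hp hc => by
    obtain ⟨a, g, rfl⟩ := Semi.exists_scal_mul hs (sqc_eq_one_iff.mp hc)
    rw [par_mul C.nondeg hN, par_scal C.nondeg hN, one_mul, par_ofOG C.nondeg hN (C.isLag_U hx0 hx)] at hp
    obtain ⟨s₁, s₂, h⟩ := C.exists_rel3_OG h8 hp
    exact ⟨_, _, (Rel3.scal 1 1 a).mul h⟩
  rcases Int.units_eq_one_or (Semi.sc Q s) with hc | hc
  · exact k s hs hp hc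
  obtain ⟨v, hv⟩ := C.nondeg.exists_Q_eq (by omega) (s.c : F)
  have hv0 : Q v ≠ 0 := by simp [hv]
  have hu : Q C.u ≠ 0 := by simp [C.Q_u]
  have h := (Rel3.refl_pair (C := C) hv0 hu).cyc
  obtain ⟨s₁, s₂, h'⟩ := k (s * (C.RS v hv0 * C.LS C.u hu)⁻¹) (by simp [hs]) (by
    rw [← parHom_apply C.nondeg hN, map_mul, map_inv, parHom_apply, parHom_apply, hp, h.par₃ h8]; rfl) (by
    rw [map_mul, map_inv, hc, Semi.sc_apply]
    simp [C.Q_u, hv, ← Semi.sc_apply, hc])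
  exact ⟨_, _, inv_mul_cancel_right s _ ▸ h'.mul h⟩

variable (C) in
theorem exists_rel3 (h8 : finrank F V = 8) (hσ : ∀ σ, ∃ φ : Semi Q, φ.σ = σ ∧ C.Rel3 φ φ φ) {s : Semi Q}
    (hp : par s = 1) : ∃ s₁ s₂, C.Rel3 s₁ s₂ s := by
  have hN := C.nondeg.nonExc_of_finrank (by omega)
  obtain ⟨φ, h1, h2⟩ := hσ s.σ
  obtain ⟨s₁, s₂, h⟩ := C.exists_rel3_lin h8 (s := s * φ⁻¹) (by simp [h1]) (by
    rw [← parHom_apply C.nondeg hN, map_mul, map_inv, parHom_apply, parHom_apply, hp, h2.par₃ h8]; rfl)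
  exact ⟨_, _, by simpa using h.mul h2⟩

theorem Rel3.mem_NO₁ (h8 : finrank F V = 8) (h : C.Rel3 s₁ s₂ s₃) (h3 : s₃ ∈ NO Q) : s₁ ∈ NO Q := by
  have hN := C.nondeg.nonExc_of_finrank (by omega)
  obtain ⟨x, hx0, hx⟩ := exists_singular Q h8
  let H : Subgroup (OG Q) :=
    { carrier := {g | ∃ t₁ ∈ NO Q, ∃ t₂, C.Rel3 t₁ t₂ (Semi.ofOG Q g)}
      mul_mem' := by
        rintro g g' ⟨t₁, a, t₂, b⟩ ⟨t₁', a', t₂', b'⟩
        exact ⟨_, mul_mem a a', _, by simpa using b.mul b'⟩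
      one_mem' := ⟨1, one_mem _, 1, by rw [map_one]; exact .one⟩
      inv_mem' := by
        rintro g ⟨t₁, a, t₂, b⟩
        exact ⟨_, inv_mem a, _, by simpa using b.inv⟩ }
  have hH : Om Q ≤ H := (Om_le_commutator_SO C.nondeg hN (by omega)).trans (Subgroup.commutator_le.mpr
    fun g hg g' hg' => by
      obtain ⟨t₁, t₂, a⟩ := C.exists_rel3_OG h8 hg
      obtain ⟨t₁', t₂', a'⟩ := C.exists_rel3_OG h8 hg'
      exact ⟨_, comm_mem_NO_of_par C.nondeg hN (C.isLag_U hx0 hx) a.σ₁ a'.σ₁ (a.par₁ h8) (a'.par₁ h8), _,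
        by simpa [commutatorElement_def] using (a.conj a').mul a'.inv⟩)
  obtain ⟨a, g, hg, rfl⟩ := h3
  obtain ⟨t₁, k1, t₂, k2⟩ := hH hg
  have := h.mul k2.inv
  rw [mul_inv_cancel_right] at this
  obtain ⟨b, hb⟩ := this.scal₁ h8
  rw [mul_inv_eq_iff_eq_mul.mp hb]
  exact mul_mem (scal_mem_NO b) k1

variable (C) in
/-- The group of related triples. -/
def tri : Subgroup (Semi Q × Semi Q × Semi Q) where
  carrier := {p | C.Rel3 p.1 p.2.1 p.2.2}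
  mul_mem' a b := a.mul b
  one_mem' := Rel3.one
  inv_mem' a := a.inv

end SymComp

theorem li_four_of_not_meets (hQ : Nondeg Q) {a b c d : V} (ha : Q a = 0) (hab : polar Q a b = 0)
    (hl : LinearIndependent F ![a, b]) (hc : Q c = 0) (hcd : polar Q c d = 0) (hl' : LinearIndependent F ![c, d])
    (h : ¬ Meets (eich Q a b) (eich Q c d)) : LinearIndependent F ![a, b, c, d] := by
  rw [Fintype.linearIndependent_iff]
  intro g hg
  simp only [Fin.sum_univ_four, Matrix.cons_val_zero, Matrix.cons_val_one, Matrix.cons_val] at hg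
  have h1 : g 0 • a + g 1 • b = 0 := by
    by_contra h1
    refine h ⟨_, h1, ?_, ?_⟩
    · rw [hQ.resSp_eich ha hab hl, Submodule.mem_span_pair]
      exact ⟨_, _, rfl⟩
    · rw [hQ.resSp_eich hc hcd hl', Submodule.mem_span_pair]
      exact ⟨-g 2, -g 3, by linear_combination (norm := module) -hg⟩
  have h2 := li_pair_iff.mp hl _ _ h1
  have h3 := li_pair_iff.mp hl' (g 2) (g 3) (by linear_combination (norm := module) hg - h1)
  intro i
  fin_cases i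
  exacts [h2.1, h2.2, h3.1, h3.2]

theorem exists_conj_of_orth (hQ : Nondeg Q) {r s r' s' : OG Q} (hr : IsRoot r) (hs : IsRoot s) (hr' : IsRoot r')
    (hs' : IsRoot s') (hm : ¬ Meets r s) (ho : Orth r s) (hm' : ¬ Meets r' s') (ho' : Orth r' s') :
    ∃ g : OG Q, g * r * g⁻¹ = r' ∧ g * s * g⁻¹ = s' := by
  obtain ⟨a, b, ha, hb, hab, hl, rfl⟩ := hr
  obtain ⟨c, d, hc, hd, hcd, hn, rfl⟩ := hs
  obtain ⟨a', b', ha', hb', hab', hl', rfl⟩ := hr'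
  obtain ⟨c', d', hc', hd', hcd', hn', rfl⟩ := hs'
  have k : ∀ {a b c d : V}, Q a = 0 → Q b = 0 → polar Q a b = 0 → LinearIndependent F ![a, b] → Q c = 0 → Q d = 0 →
      polar Q c d = 0 → LinearIndependent F ![c, d] → Orth (eich Q a b) (eich Q c d) →
      (∀ i j, polar Q (![a, b, c, d] i) (![a, b, c, d] j) = 0) ∧ ∀ i, Q (![a, b, c, d] i) = 0 := by
    intro a b c d ha hb hab hl hc hd hcd hm ho
    have := ts_sup_of_orth ⟨a, b, ha, hb, hab, hl, rfl⟩ ⟨c, d, hc, hd, hcd, hm, rfl⟩ ho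
    rw [hQ.resSp_eich ha hab hl, hQ.resSp_eich hc hcd hm, ← Submodule.span_union] at this
    have h1 : ∀ i, ![a, b, c, d] i ∈ Submodule.span F ({a, b} ∪ {c, d} : Set V) := fun i =>
      Submodule.subset_span (by fin_cases i <;> simp)
    exact ⟨fun i j => mem_perp.mp (le_perp_of_ts this (h1 j)) _ (h1 i), fun i => this _ (h1 i)⟩
  have k1 := k ha hb hab hl hc hd hcd hn ho
  have k2 := k ha' hb' hab' hl' hc' hd' hcd' hn' ho'
  obtain ⟨g, hg⟩ := hQ.witt_family _ _ (li_four_of_not_meets hQ ha hab hl hc hcd hn hm)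
    (li_four_of_not_meets hQ ha' hab' hl' hc' hcd' hn' hm') (fun i j => by rw [k1.1, k2.1])
    (fun i => by rw [k1.2, k2.2])
  exact ⟨g, by rw [conj_eich _ ha hab]; exact congrArg₂ _ (hg 0) (hg 1),
    by rw [conj_eich _ hc hcd]; exact congrArg₂ _ (hg 2) (hg 3)⟩

namespace OmModel

variable {G : Type*} [Group G] (M : OmModel Q G)

include M in
theorem conj_injective (hQ : Nondeg Q) (h5 : 5 ≤ finrank F V) :
    Function.Injective (MulAut.conj : G ⧸ Subgroup.center G →* MulAut _) := by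
  rw [injective_iff_map_eq_one]
  intro x hx
  induction x using QuotientGroup.induction_on with
  | H a =>
    rw [← M.Φ_ofOG, M.Φ_eq_one_iff hQ h5] at hx
    obtain ⟨c, hc⟩ := hx
    have := Semi.scal_mul_eq (a := c) (a' := 1) (g := 1) (g' := M.j a) (by simp [hc])
    rw [QuotientGroup.eq_one_iff, M.mem_center_iff hQ (hQ.nonExc_of_finrank (by omega)) (by omega)]
    simpa using this

theorem ORel.trans {α β : MulAut (G ⧸ Subgroup.center G)} {g g' g'' : OG Q} (h : M.ORel α g g')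
    (k : M.ORel β g' g'') : M.ORel (β * α) g g'' := by
  obtain ⟨a, a', rfl, rfl, h⟩ := h
  obtain ⟨b, b', hb, rfl, k⟩ := k
  obtain rfl := M.inj hb
  exact ⟨a, b', rfl, rfl, by unfold Aut.Rel at *; rw [MulAut.mul_apply, h, k]⟩

theorem oRel_Φ (s : Semi Q) {g : OG Q} (hg : g ∈ Om Q) : M.ORel (M.Φ s) g (Semi.cj Q s g) := by
  obtain ⟨a, rfl⟩ := M.exists_j hg
  obtain ⟨a', ha'⟩ := M.exists_cj s a
  exact ⟨a, a', rfl, ha', M.Φ_mk s ha'⟩

theorem oRel_exists (α : MulAut (G ⧸ Subgroup.center G)) {g : OG Q} (hg : g ∈ Om Q) : ∃ g', M.ORel α g g' := by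
  obtain ⟨a, rfl⟩ := M.exists_j hg
  obtain ⟨b, hb⟩ := Rel.exists_right α a
  exact ⟨_, a, b, rfl, rfl, hb⟩

theorem ORel.conj_Φ {α : MulAut (G ⧸ Subgroup.center G)} {g g' : OG Q} (h : M.ORel α g g') :
    α * M.Φ (Semi.ofOG Q g) * α⁻¹ = M.Φ (Semi.ofOG Q g') := by
  obtain ⟨a, a', rfl, rfl, h⟩ := h
  rw [M.Φ_ofOG, M.Φ_ofOG, ← show α _ = _ from h]
  ext x; simp

theorem exists_Φ_of_pair (hQ : Nondeg Q) (h7 : 7 ≤ finrank F V) (α : MulAut (G ⧸ Subgroup.center G))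
    {r s r' s' : OG Q} (hr : IsRoot r) (hs : IsRoot s) (hr' : IsRoot r') (hs' : IsRoot s') (h1 : M.ORel α r r')
    (h2 : M.ORel α s s') (hm : Meets r s) (ho : ¬ Orth r s) (hm' : Meets r' s') : ∃ t, M.Φ t = α := by
  have hR := M.goodRel hQ h7 α
  refine M.exists_Φ_of_meetsPres hQ h7 α
    (hR.meetsPres_of_pair hQ h7 (fun g hg => M.oRel_exists α hg) hr hs hr' hs' h1 h2 hm ho hm')
    (hR.flip.meetsPres_of_pair hQ h7 (fun g hg => ?_) hr' hs' hr hs h1 h2 hm' (fun h => ?_) hm)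
  · rw [M.oRel_flip]; exact M.oRel_exists α.symm hg
  · exact ho ((hQ.adj_iff hr hs).mp (hR.flip.adj h7 hr hs h1 h2 ((hQ.adj_iff hr' hs').mpr ⟨hm', h⟩))).2

variable (C : SymComp Q) (h8 : finrank F V = 8)
include h8

theorem exists_tau : ∃ τ : MulAut (G ⧸ Subgroup.center G),
    ∀ s₁ s₂ s₃, C.Rel3 s₁ s₂ s₃ → τ * M.Φ s₁ * τ⁻¹ = M.Φ s₂ := by
  have hQ := C.nondeg
  have h5 : 5 ≤ finrank F V := by omega
  have k : ∀ t : G ⧸ Subgroup.center G, ∃ s₁ s₂ s₃, C.Rel3 s₁ s₂ s₃ ∧ M.Φ s₃ = MulAut.conj t := fun t => by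
    induction t using QuotientGroup.induction_on with
    | H a =>
      obtain ⟨s₁, s₂, h⟩ := C.exists_rel3_OG h8
        ((hQ.mem_Om_iff (hQ.nonExc_of_finrank (by omega)) _).mp (M.mem_Om a)).1
      exact ⟨_, _, _, h, M.Φ_ofOG a⟩
  obtain ⟨τ, hτ⟩ := exists_conj_aut (M.Φ.comp ((MonoidHom.fst _ _).comp C.tri.subtype))
    (M.Φ.comp ((MonoidHom.fst _ _).comp ((MonoidHom.snd _ _).comp C.tri.subtype))) (M.conj_injective hQ h5)
    (by
      rintro ⟨⟨s₁, s₂, s₃⟩, h : C.Rel3 s₁ s₂ s₃⟩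
      change M.Φ s₁ = 1 ↔ M.Φ s₂ = 1
      rw [M.Φ_eq_one_iff hQ h5, M.Φ_eq_one_iff hQ h5]
      constructor
      · rintro ⟨a, rfl⟩
        exact h.cyc.scal₁ h8
      · rintro ⟨a, rfl⟩
        obtain ⟨b, rfl⟩ := h.cyc.cyc.scal₁ h8
        exact h.scal₁ h8)
    (by
      rintro ⟨⟨s₁, s₂, s₃⟩, h : C.Rel3 s₁ s₂ s₃⟩
      change M.Φ s₁ ∈ _ ↔ M.Φ s₂ ∈ _
      rw [M.Φ_mem_Inn_iff hQ h5, M.Φ_mem_Inn_iff hQ h5]
      exact ⟨h.cyc.mem_NO₁ h8, fun k => h.mem_NO₁ h8 (h.cyc.cyc.mem_NO₁ h8 k)⟩)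
    (fun t => by
      obtain ⟨s₁, s₂, s₃, h, k⟩ := k t
      exact ⟨⟨(s₃, s₁, s₂), h.cyc.cyc⟩, k⟩)
    (fun t => by
      obtain ⟨s₁, s₂, s₃, h, k⟩ := k t
      exact ⟨⟨(s₂, s₃, s₁), h.cyc⟩, k⟩)
  exact ⟨τ, fun s₁ s₂ s₃ h => hτ ⟨(s₁, s₂, s₃), h⟩⟩

variable {τ : MulAut (G ⧸ Subgroup.center G)} (hτ : ∀ s₁ s₂ s₃, C.Rel3 s₁ s₂ s₃ → τ * M.Φ s₁ * τ⁻¹ = M.Φ s₂)
include hτ

theorem tau_ext {α β : MulAut (G ⧸ Subgroup.center G)}
    (h : ∀ s₁ s₂ s₃, C.Rel3 s₁ s₂ s₃ → α * M.Φ s₃ * α⁻¹ = β * M.Φ s₃ * β⁻¹) : α = β :=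
  eq_of_conj_inn (M.conj_injective C.nondeg (by omega)) fun t => by
    induction t using QuotientGroup.induction_on with
    | H a =>
      obtain ⟨s₁, s₂, k⟩ := C.exists_rel3_OG h8
        ((C.nondeg.mem_Om_iff (C.nondeg.nonExc_of_finrank (by omega)) _).mp (M.mem_Om a)).1
      rw [← M.Φ_ofOG]
      exact h _ _ _ k

theorem tau_pow_three : τ ^ 3 = 1 := M.tau_ext C h8 hτ fun s₁ s₂ s₃ h => by
  calc _ = τ * (τ * (τ * M.Φ s₃ * τ⁻¹) * τ⁻¹) * τ⁻¹ := by rw [pow_three]; group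
    _ = _ := by rw [hτ _ _ _ h.cyc.cyc, hτ _ _ _ h, hτ _ _ _ h.cyc]; simp

theorem rho_tau : M.Φ C.ρ * τ * (M.Φ C.ρ)⁻¹ = τ⁻¹ := M.tau_ext C h8 hτ fun s₁ s₂ s₃ h => by
  have h1 := hτ _ _ _ (h.cyc.swap C)
  have h2 := hτ _ _ _ h.cyc
  have e : M.Φ C.ρ * M.Φ C.ρ = 1 := by rw [← map_mul, C.ρ_mul_self, map_one]
  simp only [map_mul] at h1
  generalize M.Φ C.ρ = P at *
  have e2 : P⁻¹ = P := inv_eq_of_mul_eq_one_right e
  calc _ = P * (τ * (P⁻¹ * M.Φ s₃ * P) * τ⁻¹) * P⁻¹ := by group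
    _ = P * (P⁻¹ * M.Φ s₂ * P) * P⁻¹ := by rw [e2, h1]
    _ = _ := by rw [← h2]; group

theorem exists_root_L {e w : V} (he : Q e = 0) (hw : Q w = 0) (hew : polar Q e w = 0)
    (hl : LinearIndependent F ![e, w]) :
    ∃ r, IsRoot r ∧ resSp r ≤ C.U e ⊓ C.U w ∧ M.ORel τ r (eich Q e w) := by
  have hQ := C.nondeg
  obtain ⟨r, hr, h⟩ := (M.goodRel hQ (by omega) τ).root_right ⟨e, w, he, hw, hew, hl, rfl⟩
  have h0 : resSp (C.eichL he hew) ≤ C.U e ⊓ C.U w := fun y hy => by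
    obtain ⟨x, rfl⟩ := mem_resSp.mp hy
    rw [C.eichL_apply, add_sub_cancel_left]
    exact ⟨⟨-C.μ x w, by rw [C.right₂ w e, polar_comm, hew]; simp⟩, _, rfl⟩
  have h1 := (ORel.conj_Φ M h).trans (hτ _ _ _ (C.rel3_eich he hew).cyc).symm
  rw [mul_left_inj, mul_right_inj, ← mul_inv_eq_one, ← map_inv, ← map_mul, ← map_inv, ← map_mul,
    M.Φ_eq_one_iff hQ (by omega)] at h1
  obtain ⟨c, hc⟩ := h1
  have h2 := Semi.scal_mul_eq (a := c) (a' := 1) (g := 1) (g' := r * (C.eichL he hew)⁻¹) (by simp [← hc])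
  rw [one_mul] at h2
  have h3 := eq_one_of_rk_lt h2 (by
    have := rk_mul_le r (C.eichL he hew)⁻¹
    have := hr.rk_le
    have : rk (C.eichL he hew) ≤ _ := Submodule.finrank_mono (h0.trans inf_le_left)
    have := hQ.two_mul_finrank_le_of_ts (C.ts_U he)
    rw [rk_inv] at *
    omega)
  exact ⟨r, hr, by rwa [mul_inv_eq_one.mp h3], h⟩

theorem exists_base : ∃ r s r' s' : OG Q, IsRoot r ∧ IsRoot s ∧ IsRoot r' ∧ IsRoot s' ∧ M.ORel τ r r' ∧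
    M.ORel τ s s' ∧ ¬ Meets r s ∧ Orth r s ∧ Meets r' s' ∧ ¬ Orth r' s' := by
  have hQ := C.nondeg
  obtain ⟨e, f, h⟩ := hQ.exists_hypSys 2 (by omega)
  have h0 : e 0 ≠ 0 := h.linearIndependent.ne_zero (Sum.inl 0)
  have h1 : polar Q (e 0) (f 1) = 0 := by simp [h.ef]
  have hl : LinearIndependent F ![e 0, e 1] := li_pair_of_ne h0 fun c hc => by
    simpa [hc, h1] using h.ef 1 1
  have hl' : LinearIndependent F ![e 0, f 1] := li_pair_of_ne h0 fun c hc => by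
    simpa [hc, h.ee] using h.ef 1 1
  obtain ⟨r, hr, k1, k2⟩ := M.exists_root_L C h8 hτ (h.qe 0) (h.qe 1) (h.ee 0 1) hl
  obtain ⟨s, hs, k3, k4⟩ := M.exists_root_L C h8 hτ (h.qe 0) (h.qf 1) h1 hl'
  have hr' : IsRoot (eich Q (e 0) (e 1)) := ⟨_, _, h.qe 0, h.qe 1, h.ee 0 1, hl, rfl⟩
  have hs' : IsRoot (eich Q (e 0) (f 1)) := ⟨_, _, h.qe 0, h.qf 1, h1, hl', rfl⟩
  have hm : Meets (eich Q (e 0) (e 1)) (eich Q (e 0) (f 1)) := ⟨e 0, h0,
    hQ.left_mem_resSp_eich h0 (h.qe 0) (h.ee 0 1) (hr'.ne_one hQ), hQ.left_mem_resSp_eich h0 (h.qe 0) h1 (hs'.ne_one hQ)⟩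
  refine ⟨r, s, _, _, hr, hs, hr', hs', k2, k4, ?_, fun x hx y hy => ?_, hm, fun ho => ?_⟩
  · rintro ⟨x, hx0, hx1, hx2⟩
    have : x ∈ C.U (e 1) ⊓ C.U (f 1) := ⟨(k1 hx1).2, (k3 hx2).2⟩
    rw [C.U_inf_eq_bot (h.qe 1) (h.qf 1) (by simp [h.ef])] at this
    exact hx0 this
  · exact mem_perp.mp (le_perp_of_ts (C.ts_U (h.qe 0)) (k3 hy).1) _ (k1 hx).1
  · have := (hQ.adj_eich_iff h0 (h.qe 0) (h.qe 1) (h.qf 1) (h.ee 0 1) h1).mp ((hQ.adj_iff hr' hs').mpr ⟨hm, ho⟩)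
    simp [h.ef] at this

theorem tau_notMem : τ ∉ M.Φ.range := by
  rintro ⟨t, rfl⟩
  have hQ := C.nondeg
  have hN := hQ.nonExc_of_finrank (by omega)
  obtain ⟨r, s, r', s', hr, hs, hr', hs', h1, h2, hm, -, hm', -⟩ := M.exists_base C h8 hτ
  have hR := M.goodRel hQ (by omega) (M.Φ t)
  obtain rfl := hR.eq_of_rk h1 (M.oRel_Φ t (hr.mem_Om hQ hN)) (by have := hr'.rk_le; have := (hr.cj t).rk_le; omega)
  obtain rfl := hR.eq_of_rk h2 (M.oRel_Φ t (hs.mem_Om hQ hN)) (by have := hs'.rk_le; have := (hs.cj t).rk_le; omega)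
  exact hm (by simpa using hm'.cj t⁻¹)

theorem exists_double_coset (α : MulAut (G ⧸ Subgroup.center G)) :
    (∃ s, α = M.Φ s) ∨ ∃ (g : OG Q) (s : Semi Q), α = M.Φ (Semi.ofOG Q g) * τ⁻¹ * M.Φ s := by
  have hQ := C.nondeg
  have hN := hQ.nonExc_of_finrank (by omega)
  obtain ⟨r, s, r', s', hr, hs, hr', hs', h1, h2, hm, ho, hm', ho'⟩ := M.exists_base C h8 hτ
  have hR := M.goodRel hQ (by omega) α
  obtain ⟨a, ha, h3⟩ := hR.root_left hr'
  obtain ⟨b, hb, h4⟩ := hR.root_left hs'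
  by_cases hab : Meets a b
  · obtain ⟨t, ht⟩ := M.exists_Φ_of_pair hQ (by omega) α hr' hs' ha hb h3 h4 hm' ho' hab
    exact .inl ⟨t, ht.symm⟩
  have hab' := orth_of_commute (hR.commute (by omega) hb.rk_le h3 h4 (hQ.commute_of_meets hr' hs' hm')) hab
  obtain ⟨g, rfl, rfl⟩ := exists_conj_of_orth hQ hr hs ha hb hm ho hab hab'
  have k : ∀ r : OG Q, IsRoot r → M.ORel (M.Φ (Semi.ofOG Q g⁻¹)) (g * r * g⁻¹) r := fun r hr => by
    have := M.oRel_Φ (Semi.ofOG Q g⁻¹) ((hr.conj g).mem_Om hQ hN)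
    rwa [Semi.cj_ofOG, show g⁻¹ * (g * r * g⁻¹) * g⁻¹⁻¹ = r by group] at this
  obtain ⟨t, ht⟩ := M.exists_Φ_of_pair hQ (by omega) _ hr' hs' hr' hs' (ORel.trans M (ORel.trans M h3 (k r hr)) h1)
    (ORel.trans M (ORel.trans M h4 (k s hs)) h2) hm' ho' hm'
  exact .inr ⟨g, t, by rw [ht, map_inv, map_inv]; group⟩

theorem tau_conj {s : Semi Q} (hσ : ∀ σ, ∃ φ : Semi Q, φ.σ = σ ∧ C.Rel3 φ φ φ) (hs : par s = 1) :
    ∃ s', s'.σ = s.σ ∧ par s' = 1 ∧ τ * M.Φ s * τ⁻¹ = M.Φ s' := by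
  obtain ⟨s₁, s₂, h⟩ := C.exists_rel3 h8 hσ hs
  exact ⟨s₁, h.σ₁, h.par₁ h8, hτ _ _ _ h.cyc.cyc⟩

theorem exists_tau_pow (α : MulAut (G ⧸ Subgroup.center G)) : ∃ (k : ℕ) (s : Semi Q), α = τ ^ k * M.Φ s := by
  have hQ := C.nondeg
  have hN := hQ.nonExc_of_finrank (by omega)
  rcases M.exists_double_coset C h8 hτ α with ⟨s, rfl⟩ | ⟨g, s, rfl⟩
  · exact ⟨0, s, by simp⟩
  have h3 : τ⁻¹ = τ ^ 2 := inv_eq_of_mul_eq_one_right (by rw [← pow_succ', M.tau_pow_three C h8 hτ])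
  have k : ∀ g : OG Q, dick g = 1 → ∃ t, M.Φ (Semi.ofOG Q g) * τ⁻¹ = τ⁻¹ * M.Φ t := fun g hg => by
    obtain ⟨s₁, s₂, h⟩ := C.exists_rel3_OG h8 hg
    exact ⟨s₁, by rw [← hτ _ _ _ h.cyc.cyc]; group⟩
  rcases Int.units_eq_one_or (dick g) with hg | hg
  · obtain ⟨t, ht⟩ := k g hg
    exact ⟨2, t * s, by rw [ht, h3, map_mul, mul_assoc]⟩
  · obtain ⟨t, ht⟩ := k (refl Q C.u * g) (by rw [hQ.dick_refl_mul (by simp [C.Q_u]), hg, neg_neg])
    refine ⟨1, C.ρ * t * s, ?_⟩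
    have e : Semi.ofOG Q g = C.ρ⁻¹ * Semi.ofOG Q (refl Q C.u * g) := by rw [map_mul, SymComp.ρ]; group
    have e2 := M.rho_tau C h8 hτ
    have e3 : C.ρ⁻¹ = C.ρ := inv_eq_of_mul_eq_one_right C.ρ_mul_self
    rw [e, map_mul, mul_assoc (M.Φ _), ht, ← e2, ← e3, map_mul, map_mul, inv_inv, e3, ← map_inv, e3, ← mul_assoc,
      ← mul_assoc, ← mul_assoc, ← map_mul, C.ρ_mul_self, map_one]
    group

end OmModel

end Cfsg.Agent.Lib.Forms
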