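import Cfsg.Agent.Lib.Forms.OrthTri2

/-!
# Triality for the standard form of plus type in dimension 8 and `Out(PΩ⁺₈(q))`
-/

set_option autoImplicit false
set_option linter.unusedSectionVars false
set_option maxHeartbeats 400000

namespace Cfsg.Agent.Lib.Forms

open Module QuadraticMap Cfsg.Agent.Lib.Aut Cfsg.Agent.Lib.Invol

section Sym

variable {O : Type*} [Group O]

theorem nonempty_perm_equiv {X : Type*} [Group X] [Finite X] {n : ℕ} (i : X →* Equiv.Perm (Fin n))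
    (hi : Function.Surjective i) (hc : Nat.card X = n.factorial) : Function.Bijective i :=
  (Nat.bijective_iff_surjective_and_card i).mpr ⟨hi, by rw [hc, Nat.card_perm, Nat.card_fin]⟩

theorem dihedral_three_cases {τ ρ : O} (hρ : ρ * ρ = 1) (h : ρ * τ * ρ⁻¹ = τ⁻¹) (hτ : τ ^ 3 = 1)
    (d : DihedralGroup 3) : ∃ e k : ℕ, e < 2 ∧ k < 3 ∧ dihedralHom hρ h hτ d = ρ ^ e * τ ^ k ∧
      (e = 0 → k = 0 → d = 1) := by
  rcases d with i | i
  · refine ⟨0, i.val, by omega, i.val_lt, by rw [dihedralHom_r, ← ZMod.natCast_val, zpow_natCast]; simp, fun _ h => ?_⟩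
    rw [(ZMod.val_eq_zero i).mp h]; rfl
  · exact ⟨1, i.val, by omega, i.val_lt, by rw [dihedralHom_sr, ← ZMod.natCast_val, zpow_natCast]; simp, by simp⟩

theorem exists_S3 {τ ρ : O} (hρ : ρ * ρ = 1) (h : ρ * τ * ρ⁻¹ = τ⁻¹) (hτ : τ ^ 3 = 1) :
    ∃ i : Equiv.Perm (Fin 3) →* O, τ ∈ i.range ∧ ρ ∈ i.range ∧
      ∀ x, ∃ e k : ℕ, e < 2 ∧ k < 3 ∧ i x = ρ ^ e * τ ^ k ∧ (e = 0 → k = 0 → x = 1) := by
  let ψ := dihedralHom (x := Equiv.swap (0 : Fin 3) 1) (r := Equiv.swap 0 1 * Equiv.swap 1 2) (n := 3)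
    (by decide) (by decide) (by decide)
  let e := MulEquiv.ofBijective ψ (nonempty_perm_equiv ψ (by decide) (by simp [DihedralGroup.card]; rfl))
  refine ⟨(dihedralHom hρ h hτ).comp e.symm.toMonoidHom, ⟨e (.r 1), ?_⟩, ⟨e (.sr 0), ?_⟩, fun x => ?_⟩
  · simp [dihedralHom_r, show ((1 : ZMod 3).cast : ℤ) = 1 from rfl]
  · simp [dihedralHom_sr]
  · obtain ⟨a, k, h1, h2, h3, h4⟩ := dihedral_three_cases hρ h hτ (e.symm x)
    exact ⟨a, k, h1, h2, h3, fun a b => e.symm.map_eq_one_iff.mp (h4 a b)⟩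

/-- The homomorphism from the Klein four group given by two commuting involutions. -/
def kleinHom {a b : O} (ha : a * a = 1) (hb : b * b = 1) (hab : a * b = b * a) : ℤˣ × ℤˣ →* O :=
  MonoidHom.mk' (fun p => (if p.1 = 1 then 1 else a) * if p.2 = 1 then 1 else b) (by
    have h1 : ∀ x, b * (a * x) = a * (b * x) := fun x => by rw [← mul_assoc, ← hab, mul_assoc]
    have h2 : ∀ x, a * (a * x) = x := fun x => by rw [← mul_assoc, ha, one_mul]
    rintro ⟨x, y⟩ ⟨z, w⟩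
    rcases Int.units_eq_one_or x with rfl | rfl <;> rcases Int.units_eq_one_or y with rfl | rfl <;>
      rcases Int.units_eq_one_or z with rfl | rfl <;> rcases Int.units_eq_one_or w with rfl | rfl <;>
      simp [ha, hb, mul_assoc, h1, h2, ← hab])

/-- Order three automorphism of the Klein group. -/
def kleinRot : MulAut (ℤˣ × ℤˣ) :=
  ⟨⟨fun p => (p.2, p.1 * p.2), fun p => (p.1 * p.2, p.1), by decide, by decide⟩, by decide⟩

/-- Order two automorphism of the Klein group. -/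
def kleinSwap : MulAut (ℤˣ × ℤˣ) :=
  ⟨⟨fun p => (p.1 * p.2, p.2), fun p => (p.1 * p.2, p.2), by decide, by decide⟩, by decide⟩

/-- The action of `D₃` on the Klein group. -/
noncomputable def kleinAct : DihedralGroup 3 →* MulAut (ℤˣ × ℤˣ) :=
  dihedralHom (x := kleinSwap) (r := kleinRot) (MulEquiv.ext (by decide)) (MulEquiv.ext (by decide))
    (MulEquiv.ext (by decide))

theorem exists_semidirect {a τ ρ : O} (hρ : ρ * ρ = 1) (h : ρ * τ * ρ⁻¹ = τ⁻¹) (hτ : τ ^ 3 = 1) (ha : a * a = 1)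
    (hρa : ρ * a = a * ρ) (h3 : τ * (τ * a * τ⁻¹) * τ⁻¹ = a * (τ * a * τ⁻¹)) :
    ∃ i : (ℤˣ × ℤˣ) ⋊[kleinAct] DihedralGroup 3 →* O, a ∈ i.range ∧ τ ∈ i.range ∧ ρ ∈ i.range ∧
      ∀ x, ∃ v w e k : ℕ, v < 2 ∧ w < 2 ∧ e < 2 ∧ k < 3 ∧ i x = a ^ v * (τ * a * τ⁻¹) ^ w * (ρ ^ e * τ ^ k) ∧
        (v = 0 → w = 0 → e = 0 → k = 0 → x = 1) := by
  set b := τ * a * τ⁻¹ with hb0
  have hb : b * b = 1 := by rw [hb0, conj_mul, ha]; simp
  have hab : a * b = b * a := by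
    have : (a * b) * (a * b) = 1 := by rw [← h3, conj_mul, hb]; simp
    rw [← inv_eq_of_mul_eq_one_right this, mul_inv_rev, inv_eq_of_mul_eq_one_right ha, inv_eq_of_mul_eq_one_right hb]
  have hρ' : ρ⁻¹ = ρ := inv_eq_of_mul_eq_one_right hρ
  have hτ' : τ⁻¹ = τ * τ := inv_eq_of_mul_eq_one_right (by rw [← hτ, pow_three])
  have k1 : ρ * a * ρ⁻¹ = a := by rw [hρa]; group
  have k2 : ρ * b * ρ⁻¹ = a * b := by
    calc _ = (ρ * τ * ρ⁻¹) * (ρ * a * ρ⁻¹) * (ρ * τ * ρ⁻¹)⁻¹ := by rw [hb0]; group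
      _ = (τ * τ) * a * (τ * τ)⁻¹ := by rw [h, k1, ← hτ']
      _ = _ := by rw [← h3, hb0]; group
  let P : MulAut (ℤˣ × ℤˣ) → O → Prop := fun α x => ∀ v, kleinHom ha hb hab (α v) = x * kleinHom ha hb hab v * x⁻¹
  have P1 : ∀ α x β y, P α x → P β y → P (α * β) (x * y) := fun α x β y p q v => by
    rw [MulAut.mul_apply, p, q]; group
  have P2 : ∀ α x, P α x → ∀ n : ℕ, P (α ^ n) (x ^ n) := fun α x p n => by
    induction n with
    | zero => intro v; simp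
    | succ n ih => rw [pow_succ, pow_succ]; exact P1 _ _ _ _ ih p
  have h1 : ∀ x, a * (a * x) = x := fun x => by rw [← mul_assoc, ha, one_mul]
  have P3 : P kleinRot τ := by
    rintro ⟨x, y⟩
    have : τ * (a * b) * τ⁻¹ = a := by rw [← conj_mul, ← hb0, h3, ← mul_assoc, ← hab, mul_assoc, hb, mul_one]
    rcases Int.units_eq_one_or x with rfl | rfl <;> rcases Int.units_eq_one_or y with rfl | rfl <;>
      simp [kleinHom, kleinRot, h3, this, ← hb0]
  have P4 : P kleinSwap ρ := by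
    rintro ⟨x, y⟩
    have : ρ * (a * b) * ρ⁻¹ = b := by rw [← conj_mul, k1, k2, h1]
    rcases Int.units_eq_one_or x with rfl | rfl <;> rcases Int.units_eq_one_or y with rfl | rfl <;>
      simp [kleinHom, kleinSwap, k1, k2, this]
  have P5 : ∀ g, P (kleinAct g) (dihedralHom hρ h hτ g) := by
    rintro (i | i)
    · rw [kleinAct, dihedralHom_r, dihedralHom_r, ← ZMod.natCast_val, zpow_natCast, zpow_natCast]
      exact P2 _ _ P3 _
    · rw [kleinAct, dihedralHom_sr, dihedralHom_sr, ← ZMod.natCast_val, zpow_natCast, zpow_natCast]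
      exact P1 _ _ _ _ P4 (P2 _ _ P3 _)
  refine ⟨SemidirectProduct.lift (kleinHom ha hb hab) (dihedralHom hρ h hτ) fun g => MonoidHom.ext (P5 g),
    ⟨.inl (-1, 1), by simp [kleinHom]⟩, ⟨.inr (.r 1), ?_⟩, ⟨.inr (.sr 0), by simp [dihedralHom_sr]⟩, ?_⟩
  · simp [dihedralHom_r, show ((1 : ZMod 3).cast : ℤ) = 1 from rfl]
  rintro ⟨⟨x, y⟩, d⟩
  obtain ⟨e, k, h1, h2, h3, h4⟩ := dihedral_three_cases hρ h hτ d
  refine ⟨if x = 1 then 0 else 1, if y = 1 then 0 else 1, e, k, by split_ifs <;> omega, by split_ifs <;> omega, h1, h2,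
    ?_, fun p q r s => ?_⟩
  · rw [← h3]
    change kleinHom ha hb hab (x, y) * _ = _
    rcases Int.units_eq_one_or x with rfl | rfl <;> rcases Int.units_eq_one_or y with rfl | rfl <;> simp [kleinHom]
  · obtain rfl : x = 1 := by simpa using p
    obtain rfl : y = 1 := by simpa using q
    rw [h4 r s]; rfl

theorem exists_S4 {a τ ρ : O} (hρ : ρ * ρ = 1) (h : ρ * τ * ρ⁻¹ = τ⁻¹) (hτ : τ ^ 3 = 1) (ha : a * a = 1)
    (hρa : ρ * a = a * ρ) (h3 : τ * (τ * a * τ⁻¹) * τ⁻¹ = a * (τ * a * τ⁻¹)) :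
    ∃ i : Equiv.Perm (Fin 4) →* O, a ∈ i.range ∧ τ ∈ i.range ∧ ρ ∈ i.range ∧
      ∀ x, ∃ v w e k : ℕ, v < 2 ∧ w < 2 ∧ e < 2 ∧ k < 3 ∧ i x = a ^ v * (τ * a * τ⁻¹) ^ w * (ρ ^ e * τ ^ k) ∧
        (v = 0 → w = 0 → e = 0 → k = 0 → x = 1) := by
  obtain ⟨i, h1, h2, h3, h4⟩ := exists_semidirect hρ h hτ ha hρa h3
  obtain ⟨ψ, k1, k2, k3, -⟩ := exists_semidirect (O := Equiv.Perm (Fin 4)) (a := Equiv.swap 0 3 * Equiv.swap 1 2)
    (τ := Equiv.swap 1 2 * Equiv.swap 2 3) (ρ := Equiv.swap 1 2) (by decide) (by decide) (by decide) (by decide)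
    (by decide) (by decide)
  have : Finite ((ℤˣ × ℤˣ) ⋊[kleinAct] DihedralGroup 3) := Finite.of_equiv _ SemidirectProduct.equivProd.symm
  have hs : Function.Surjective ψ := fun x => by
    have key : ∀ x : Equiv.Perm (Fin 4), ∃ v w e : Fin 2, ∃ k : Fin 3,
        x = (Equiv.swap 0 3 * Equiv.swap 1 2) ^ v.1 * (Equiv.swap 1 2 * Equiv.swap 2 3 *
        (Equiv.swap 0 3 * Equiv.swap 1 2) * (Equiv.swap 1 2 * Equiv.swap 2 3)⁻¹) ^ w.1 * Equiv.swap 1 2 ^ e.1 *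
        (Equiv.swap 1 2 * Equiv.swap 2 3) ^ k.1 := by decide +kernel
    obtain ⟨v, w, e, k, rfl⟩ := key x
    exact mul_mem (mul_mem (mul_mem (pow_mem k1 _) (pow_mem (mul_mem (mul_mem k2 k1) (inv_mem k2)) _))
      (pow_mem k3 _)) (pow_mem k2 _)
  let e := MulEquiv.ofBijective ψ (nonempty_perm_equiv ψ hs (by
    simp [SemidirectProduct.card, DihedralGroup.card]; rfl))
  have hr : (i.comp e.symm.toMonoidHom).range = i.range := by
    rw [MonoidHom.range_comp, MonoidHom.range_eq_top.mpr e.symm.surjective, ← MonoidHom.range_eq_map]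
  refine ⟨i.comp e.symm.toMonoidHom, hr ▸ h1, hr ▸ h2, hr ▸ h3, fun x => ?_⟩
  obtain ⟨v, w, a, k, p1, p2, p3, p4, p5, p6⟩ := h4 (e.symm x)
  exact ⟨v, w, a, k, p1, p2, p3, p4, p5, fun a b c d => e.symm.map_eq_one_iff.mp (p6 a b c d)⟩

end Sym

section Zorn

variable {F : Type*} [Field F]

/-- The para-Zorn product. -/
def zornMul (x y : Fin 4 ⊕ Fin 4 → F) : Fin 4 ⊕ Fin 4 → F := Sum.elim
  ![x (.inr 0) * y (.inr 0) - x (.inr 1) * y (.inl 1) - x (.inr 2) * y (.inl 2) - x (.inr 3) * y (.inl 3),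
    -x (.inl 0) * y (.inl 1) - y (.inr 0) * x (.inl 1) + (x (.inr 2) * y (.inr 3) - x (.inr 3) * y (.inr 2)),
    -x (.inl 0) * y (.inl 2) - y (.inr 0) * x (.inl 2) + (x (.inr 3) * y (.inr 1) - x (.inr 1) * y (.inr 3)),
    -x (.inl 0) * y (.inl 3) - y (.inr 0) * x (.inl 3) + (x (.inr 1) * y (.inr 2) - x (.inr 2) * y (.inr 1))]
  ![x (.inl 0) * y (.inl 0) - x (.inl 1) * y (.inr 1) - x (.inl 2) * y (.inr 2) - x (.inl 3) * y (.inr 3),
    -y (.inl 0) * x (.inr 1) - x (.inr 0) * y (.inr 1) + (x (.inl 2) * y (.inl 3) - x (.inl 3) * y (.inl 2)),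
    -y (.inl 0) * x (.inr 2) - x (.inr 0) * y (.inr 2) + (x (.inl 3) * y (.inl 1) - x (.inl 1) * y (.inl 3)),
    -y (.inl 0) * x (.inr 3) - x (.inr 0) * y (.inr 3) + (x (.inl 1) * y (.inl 2) - x (.inl 2) * y (.inl 1))]

/-- The para-Zorn algebra as a symmetric composition. -/
def zorn (F : Type*) [Field F] : SymComp (qPlus 4 F) where
  μ := LinearMap.mk₂ F zornMul
    (fun x y z => by ext (i | i) <;> fin_cases i <;> simp [zornMul] <;> ring)
    (fun c x y => by ext (i | i) <;> fin_cases i <;> simp [zornMul] <;> ring)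
    (fun x y z => by ext (i | i) <;> fin_cases i <;> simp [zornMul] <;> ring)
    (fun c x y => by ext (i | i) <;> fin_cases i <;> simp [zornMul] <;> ring)
  nondeg := nondeg_qPlus 4
  norm x y := by simp [qPlus_apply, zornMul, Fin.sum_univ_four]; ring
  assoc x y z := by simp [polar_qPlus, zornMul, Fin.sum_univ_four]; ring
  u := Sum.elim ![1, 0, 0, 0] ![1, 0, 0, 0]
  Q_u := by simp [qPlus_apply, Fin.sum_univ_four]
  u_mul x := by ext (i | i) <;> fin_cases i <;> simp [zornMul, polar_qPlus, Fin.sum_univ_four]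
  mul_u x := by ext (i | i) <;> fin_cases i <;> simp [zornMul, polar_qPlus, Fin.sum_univ_four]

end Zorn

end Cfsg.Agent.Lib.Forms
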