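import Cfsg.Agent.Lib.Forms.OrthTri4
import Cfsg.Agent.Lib.Invol.BaerSuzuki

/-!
# Twisted symmetric compositions and their automorphism groups
-/

set_option autoImplicit false
set_option linter.unusedSectionVars false
set_option maxHeartbeats 400000

namespace Cfsg.Agent.Lib.Forms

open Module QuadraticMap

section Grp

variable {G : Type*} [Group G]

theorem isPGroup_closure_pair {r : ℕ} [Fact r.Prime] {u v : G} (hu : u ^ r = 1) (hv : v ^ r = 1)
    (h1 : Commute (u * v * u⁻¹) v) (h2 : Commute (v * u * v⁻¹) u) :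
    IsPGroup r (Subgroup.closure ({u, v} : Set G)) := by
  have hz : ∀ x : G, x ^ r = 1 → IsPGroup r (Subgroup.zpowers x) := fun x hx => by
    rintro ⟨_, k, rfl⟩
    exact ⟨1, Subtype.ext (by
      change (x ^ k) ^ r ^ 1 = 1
      rw [pow_one, ← zpow_natCast, ← zpow_mul, mul_comm k, zpow_mul, zpow_natCast, hx, one_zpow])⟩
  have hn : ∀ (x : G) (H : Subgroup G), (∀ y ∈ H, x * y * x⁻¹ ∈ H) → (∀ y ∈ H, x⁻¹ * y * x ∈ H) →
      Subgroup.zpowers x ≤ Subgroup.normalizer (H : Set G) := fun x H a b => by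
    rw [Subgroup.zpowers_le, Subgroup.mem_normalizer_iff]
    exact fun y => ⟨a y, fun h => by simpa [mul_assoc] using b _ h⟩
  set w := u * v * u⁻¹ with hw
  have hwr : w ^ r = 1 := by rw [hw, conj_pow, hv]; simp
  have hc : ∀ {x y : G}, Commute x y → ∀ z ∈ Subgroup.zpowers y, x * z * x⁻¹ ∈ Subgroup.zpowers y := by
    rintro x y h _ ⟨k, rfl⟩
    exact ⟨k, by simp [(h.zpow_right k).eq]⟩
  have hB : IsPGroup r (Subgroup.zpowers v ⊔ Subgroup.zpowers w : Subgroup G) :=
    IsPGroup.to_sup_of_normal_right' (hz v hv) (hz w hwr)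
      (hn _ _ (hc h1.symm) (by simpa using hc h1.symm.inv_left))
  have hc3 : Commute u (w * v⁻¹) := by
    have : w * v⁻¹ = (v * u * v⁻¹ * u⁻¹)⁻¹ := by rw [hw]; group
    rw [this]
    exact (h2.symm.mul_right (Commute.refl u).inv_right).inv_right
  have hv' : v ∈ (Subgroup.zpowers v ⊔ Subgroup.zpowers w : Subgroup G) :=
    Subgroup.mem_sup_left (Subgroup.mem_zpowers v)
  have hw' : w ∈ (Subgroup.zpowers v ⊔ Subgroup.zpowers w : Subgroup G) :=
    Subgroup.mem_sup_right (Subgroup.mem_zpowers w)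
  have key : ∀ x : G, x * v * x⁻¹ ∈ (Subgroup.zpowers v ⊔ Subgroup.zpowers w : Subgroup G) →
      x * w * x⁻¹ ∈ (Subgroup.zpowers v ⊔ Subgroup.zpowers w : Subgroup G) →
      ∀ y ∈ (Subgroup.zpowers v ⊔ Subgroup.zpowers w : Subgroup G),
        x * y * x⁻¹ ∈ (Subgroup.zpowers v ⊔ Subgroup.zpowers w : Subgroup G) := fun x a b y hy => by
    have : (Subgroup.zpowers v ⊔ Subgroup.zpowers w : Subgroup G) ≤
        (Subgroup.zpowers v ⊔ Subgroup.zpowers w : Subgroup G).comap (MulAut.conj x).toMonoidHom :=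
      sup_le (Subgroup.zpowers_le.mpr a) (Subgroup.zpowers_le.mpr b)
    exact this hy
  have hA := IsPGroup.to_sup_of_normal_right' (hz u hu) hB (hn _ _ (key u hw' (by
    have : u * w * u⁻¹ = w * v⁻¹ * w := by
      calc _ = u * (w * v⁻¹) * u⁻¹ * (u * v * u⁻¹) := by group
        _ = _ := by rw [hc3.eq, mul_inv_cancel_right]
    rw [this]; exact mul_mem (mul_mem hw' (inv_mem hv')) hw')) (by
      simpa using key u⁻¹ (by
        have : u⁻¹ * v * u⁻¹⁻¹ = (w * v⁻¹)⁻¹ * v := by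
          calc _ = u⁻¹ * (w * v⁻¹)⁻¹ * u * (u⁻¹ * w * u) := by group
            _ = _ := by rw [hc3.inv_inv.eq, hw]; group
        rw [this]; exact mul_mem (inv_mem (mul_mem hw' (inv_mem hv'))) hv') (by
        rw [show u⁻¹ * w * u⁻¹⁻¹ = v by rw [hw]; group]; exact hv')))
  exact hA.to_le ((Subgroup.closure_le _).mpr (by
    rintro x (rfl | rfl)
    · exact Subgroup.mem_sup_left (Subgroup.mem_zpowers _)
    · exact Subgroup.mem_sup_right hv'))

theorem eq_of_braid {u v : G} {k : ℕ} (hk : ¬ 3 ∣ k) (h : (u * v) ^ k = 1) (hb : u * v * u = v * u * v) :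
    u = v := by
  have h1 : (u * v) ^ 3 = (u * v * u) * (v * u * v) := by rw [pow_three]; group
  have h2 : Commute u ((u * v) ^ 3) := by
    have : u * (u * v) ^ 3 = u * ((v * u * v) * (u * v * u)) := by rw [h1, hb]
    rw [Commute, SemiconjBy, this, h1]
    calc _ = (u * v * u) * (v * u * v) * u := by group
      _ = _ := rfl
  have h3 : Nat.Coprime 3 k := (Nat.Prime.coprime_iff_not_dvd Nat.prime_three).mpr hk
  have h4 : u * v ∈ Subgroup.zpowers ((u * v) ^ 3) :=
    mem_zpowers_pow_iff.mpr (Nat.Coprime.coprime_dvd_right (orderOf_dvd_of_pow_eq_one h) h3)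
  obtain ⟨j, hj⟩ := h4
  have h5 : Commute u (u * v) := by
    have := h2.zpow_right j
    rwa [show ((u * v) ^ 3) ^ j = u * v from hj] at this
  have h6 : u * v = v * u := by
    have := h5.eq
    rwa [mul_assoc u v u, mul_left_cancel_iff] at this
  rw [h6, mul_assoc, mul_assoc, mul_left_cancel_iff, mul_left_cancel_iff] at hb
  exact hb

theorem pow_mul_mem {N : Subgroup G} {z n : G} (hz : ∀ t ∈ N, z * t * z⁻¹ ∈ N) (hn : n ∈ N) (k : ℕ) :
    (n * z) ^ k * (z ^ k)⁻¹ ∈ N := by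
  induction k with
  | zero => simp
  | succ k ih =>
    have : (n * z) ^ (k + 1) * (z ^ (k + 1))⁻¹ = n * (z * ((n * z) ^ k * (z ^ k)⁻¹) * z⁻¹) := by
      rw [pow_succ', pow_succ']; group
    rw [this]
    exact mul_mem hn (hz _ ih)

theorem eq_of_braid_norm {N : Subgroup G} [Finite N] (nd : ¬ 3 ∣ Nat.card N) {y₁ y₂ n : G}
    (h1 : ∀ t ∈ N, y₁ * t * y₁⁻¹ ∈ N) (h2 : ∀ t ∈ N, y₂ * t * y₂⁻¹ ∈ N) (hn : n ∈ N) {k : ℕ} (hk : ¬ 3 ∣ k)
    (h : (y₁ * y₂) ^ k = 1) (hb : y₁ * (n * y₂ * n⁻¹) * y₁ = (n * y₂ * n⁻¹) * y₁ * (n * y₂ * n⁻¹)) :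
    y₁ = n * y₂ * n⁻¹ := by
  have h3 := pow_mul_mem (N := N) (z := y₁ * y₂) (n := y₁ * (n * (y₂ * n⁻¹ * y₂⁻¹)) * y₁⁻¹)
    (fun t ht => by simpa [mul_assoc] using h1 _ (h2 t ht)) (h1 _ (mul_mem hn (h2 _ (inv_mem hn)))) k
  rw [h, inv_one, mul_one, show y₁ * (n * (y₂ * n⁻¹ * y₂⁻¹)) * y₁⁻¹ * (y₁ * y₂) = y₁ * (n * y₂ * n⁻¹) by group] at h3
  refine eq_of_braid (k := k * Nat.card N) (fun hc => ((Nat.Prime.dvd_mul Nat.prime_three).mp hc).elim hk nd) ?_ hb
  rw [pow_mul]
  exact congrArg Subtype.val (pow_card_eq_one' (x := (⟨_, h3⟩ : N)))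

end Grp

variable {F V : Type*} [Field F] [AddCommGroup V] [Module F V] {Q : QuadraticForm F V}

/-- A twisted symmetric composition on `(V, Q)`. -/
structure Tw (Q : QuadraticForm F V) where
  θ : F ≃+* F
  m : V →+ V →+ V
  nondeg : Nondeg Q
  θ3 : ∀ a, θ (θ (θ a)) = a
  smul_left : ∀ (s : F) a b, m (s • a) b = θ s • m a b
  smul_right : ∀ (s : F) a b, m a (s • b) = θ (θ s) • m a b
  norm : ∀ a b, Q (m a b) = θ (Q a) * θ (θ (Q b))
  cyc : ∀ a b z, polar Q (m a b) z = θ (polar Q (m b z) a)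

theorem eq_one_of_tw {θ : F ≃+* F} (h3 : ∀ a, θ (θ (θ a)) = a) {l : F} (hl : l ≠ 0) (h : l = θ l * θ (θ l)) :
    l = 1 := by
  have h1 := congrArg θ h
  rw [map_mul, h3] at h1
  have h2 : (θ (θ l)) * θ (θ l) = 1 := mul_right_cancel₀ hl (by rw [one_mul]; linear_combination -h - θ (θ l) * h1)
  have h4 : l * l = 1 := θ.injective (θ.injective (by simpa using h2))
  rcases mul_self_eq_one_iff.mp h4 with h5 | h5
  · exact h5
  · rw [h5] at h ⊢
    simpa using h

namespace Tw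

variable (T : Tw Q)

attribute [simp] smul_left smul_right θ3

theorem cyc₂ (a b z : V) : polar Q (T.m a b) z = T.θ (T.θ (polar Q (T.m z a) b)) := by rw [T.cyc, T.cyc]

theorem polar_right (x y z : V) : polar Q (T.m x y) (T.m x z) = T.θ (Q x) * T.θ (T.θ (polar Q y z)) := by
  have := T.norm x (y + z)
  rw [map_add, Q_add, Q_add, T.norm, T.norm, map_add, map_add, map_add, map_add] at this
  linear_combination this

theorem polar_left (x y z : V) : polar Q (T.m y x) (T.m z x) = T.θ (polar Q y z) * T.θ (T.θ (Q x)) := by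
  have := T.norm (y + z) x
  rw [map_add, AddMonoidHom.add_apply, Q_add, Q_add, T.norm, T.norm, map_add, map_add] at this
  linear_combination this

theorem left (x y : V) : T.m (T.m x y) x = T.θ (T.θ (Q x)) • y :=
  T.nondeg.eq_of_polar fun z => by
    rw [T.cyc, T.polar_right, polar_smul_left, smul_eq_mul, map_mul, T.θ3, polar_comm]

theorem right (x y : V) : T.m x (T.m y x) = T.θ (Q x) • y :=
  T.nondeg.eq_of_polar fun z => by
    rw [T.cyc₂, T.polar_left, polar_smul_left, smul_eq_mul, map_mul, map_mul, T.θ3, T.θ3, polar_comm, mul_comm]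

theorem left₂ (x x' y : V) : T.m (T.m x y) x' = T.θ (T.θ (polar Q x x')) • y - T.m (T.m x' y) x := by
  have := T.left (x + x') y
  simp only [map_add, AddMonoidHom.add_apply, T.left, Q_add, add_smul] at this
  linear_combination (norm := module) this

theorem right₂ (x x' y : V) : T.m x (T.m y x') = T.θ (polar Q x x') • y - T.m x' (T.m y x) := by
  have := T.right (x + x') y
  simp only [map_add, AddMonoidHom.add_apply, T.right, Q_add, add_smul] at this
  linear_combination (norm := module) this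

theorem Q_eq_zero_of_right {x y : V} (hx : x ≠ 0) (h : T.m x y = 0) : Q y = 0 := by
  have := T.right y x
  rw [h, map_zero] at this
  simpa [hx] using this.symm

theorem Q_eq_zero_of_left {x y : V} (hx : x ≠ 0) (h : T.m y x = 0) : Q y = 0 := by
  have := T.left y x
  rw [h, map_zero, AddMonoidHom.zero_apply] at this
  simpa [hx] using this.symm

/-- The group of semilinear automorphisms. -/
def Aut : Subgroup (Semi Q) where
  carrier := {t | ∀ a b, t.e (T.m a b) = T.m (t.e a) (t.e b)}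
  mul_mem' := fun {s t} hs ht a b => by rw [Semi.mul_e, ht, hs]; rfl
  one_mem' _ _ := rfl
  inv_mem' := fun {t} ht a b => t.e.injective (by rw [ht, Semi.e_inv_e, Semi.e_inv_e, Semi.e_inv_e])

theorem mem_Aut {t : Semi Q} : t ∈ T.Aut ↔ ∀ a b, t.e (T.m a b) = T.m (t.e a) (t.e b) := Iff.rfl

variable {T} [Nontrivial V] {t : Semi Q}

theorem Aut.σ_θ (ht : t ∈ T.Aut) (s : F) : t.σ (T.θ s) = T.θ (t.σ s) := by
  obtain ⟨v, hv⟩ := T.nondeg.exists_Q_ne_zero
  have h0 : t.e (T.m v v) ≠ 0 := fun h => hv (T.Q_eq_zero_of_right (by rintro rfl; simp at hv) ((t.e_eq_zero_iff _).mp h))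
  have := ht (s • v) v
  rw [T.smul_left, t.map_smul, t.map_smul, T.smul_left, ← ht] at this
  exact smul_left_injective F h0 this

theorem Aut.c_eq (ht : t ∈ T.Aut) : (t.c : F) = 1 := by
  obtain ⟨v, hv⟩ := T.nondeg.exists_Q_ne_zero
  have := congrArg Q (ht v v)
  rw [t.map_Q, T.norm, T.norm, t.map_Q] at this
  simp only [map_mul, Aut.σ_θ ht] at this
  refine eq_one_of_tw T.θ3 t.c.ne_zero (mul_right_cancel₀ (b := T.θ (t.σ (Q v)) * T.θ (T.θ (t.σ (Q v))))
    (by simp [hv]) ?_)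
  linear_combination this

theorem Aut.map_Q (ht : t ∈ T.Aut) (v : V) : Q (t.e v) = t.σ (Q v) := by rw [t.map_Q, Aut.c_eq ht, one_mul]

theorem Aut.map_polar (ht : t ∈ T.Aut) (u v : V) : polar Q (t.e u) (t.e v) = t.σ (polar Q u v) := by
  rw [t.map_polar, Aut.c_eq ht, one_mul]

theorem Aut.conj_eich (ht : t ∈ T.Aut) {e w : V} (he : Q e = 0) (hw : polar Q e w = 0) :
    t * Semi.ofOG Q (eich Q e w) * t⁻¹ = Semi.ofOG Q (eich Q (t.e e) (t.e w)) := by
  rw [← Semi.ofOG_cj, Semi.cj_eich t he hw, Aut.c_eq ht, inv_one, one_smul]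

theorem Aut.scal_eq_one {a : Fˣ} (h : Semi.scal Q a ∈ T.Aut) : a = 1 := by
  obtain ⟨v, hv⟩ := T.nondeg.exists_Q_ne_zero
  have h0 : T.m v v ≠ 0 := fun h => hv (T.Q_eq_zero_of_right (by rintro rfl; simp at hv) h)
  have := h v v
  simp only [Semi.scal_e, T.smul_left, T.smul_right, smul_smul] at this
  exact Units.ext (eq_one_of_tw T.θ3 a.ne_zero (smul_left_injective F h0 this))

theorem exists_scal_mul_mem [Finite F] {l : F} (hl : l ≠ 0) (h : ∀ a b, T.m (t.e a) (t.e b) = l • t.e (T.m a b)) :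
    ∃ a, Semi.scal Q a * t ∈ T.Aut := by
  let f : F → F := fun x => x / (T.θ x * T.θ (T.θ x))
  have hf : Function.Injective f := fun x y hxy => by
    by_cases hy : y = 0
    · subst hy
      by_contra hx
      simp [f, hx] at hxy
    have hx : x ≠ 0 := by
      rintro rfl
      have := hxy.symm
      simp [f, hy] at this
    have h1 : T.θ x ≠ 0 := by simpa using hx
    have h2 : T.θ (T.θ x) ≠ 0 := by simpa using hx
    have h3 : T.θ y ≠ 0 := by simpa using hy
    have h4 : T.θ (T.θ y) ≠ 0 := by simpa using hy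
    refine (div_eq_one_iff_eq hy).mp (eq_one_of_tw T.θ3 (div_ne_zero hx hy) ?_)
    simp only [map_div₀]
    simp only [f] at hxy
    field_simp at hxy ⊢
    linear_combination hxy
  obtain ⟨x, hx⟩ := Finite.injective_iff_surjective.mp hf l
  have hx0 : x ≠ 0 := by
    rintro rfl
    simp [f, eq_comm, hl] at hx
  refine ⟨Units.mk0 x hx0, fun a b => ?_⟩
  simp only [Semi.mul_e, Semi.scal_e, Units.val_mk0, T.smul_left, T.smul_right, h, smul_smul, ← hx, f]
  congr 1
  have h1 : T.θ x ≠ 0 := by simpa using hx0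
  have h2 : T.θ (T.θ x) ≠ 0 := by simpa using hx0
  field_simp

end Tw

/-- A `3'`-group of automorphisms normalised by all linear automorphisms. -/
structure Tw.Bal (T : Tw Q) (N : Subgroup (Semi Q)) : Prop where
  le : N ≤ T.Aut
  nd : ¬ 3 ∣ Nat.card N
  norm : ∀ g ∈ T.Aut, g.σ = 1 → ∀ t ∈ N, g * t * g⁻¹ ∈ N

/-- The twist of a symmetric composition by an automorphism of order dividing three. -/
def SymComp.tw (C : SymComp Q) (φ : Semi Q) (hc : (φ.c : F) = 1) (h3 : ∀ x, φ.e (φ.e (φ.e x)) = x)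
    (hσ : ∀ a, φ.σ (φ.σ (φ.σ a)) = a) (ha : ∀ x y, φ.e (C.μ x y) = C.μ (φ.e x) (φ.e y)) : Tw Q where
  θ := φ.σ
  m := AddMonoidHom.mk' (fun x => AddMonoidHom.mk' (fun y => C.μ (φ.e x) (φ.e (φ.e y))) fun y z => by simp)
    fun x y => by ext z; simp
  nondeg := C.nondeg
  θ3 := hσ
  smul_left s a b := by simp [φ.map_smul]
  smul_right s a b := by simp [φ.map_smul]
  norm a b := by simp [C.norm, φ.map_Q, hc]
  cyc a b z := by
    have := φ.map_polar (C.μ (φ.e b) (φ.e (φ.e z))) a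
    rw [hc, one_mul, ha, h3] at this
    simp only [AddMonoidHom.mk'_apply]
    rw [← this, C.cyc]

theorem SymComp.tw_m (C : SymComp Q) (φ : Semi Q) (hc h3 hσ ha) (x y : V) :
    (C.tw φ hc h3 hσ ha).m x y = C.μ (φ.e x) (φ.e (φ.e y)) := rfl

section Std

/-- The cyclic permutation of the last three hyperbolic pairs. -/
def rot (x : Fin 4 ⊕ Fin 4 → F) : Fin 4 ⊕ Fin 4 → F :=
  Sum.elim ![x (.inl 0), x (.inl 3), x (.inl 1), x (.inl 2)] ![x (.inr 0), x (.inr 3), x (.inr 1), x (.inr 2)]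

theorem rot_rot_rot (x : Fin 4 ⊕ Fin 4 → F) : rot (rot (rot x)) = x := by
  ext (i | i) <;> fin_cases i <;> rfl

/-- `rot` as an isometry. -/
def rotSemi (F : Type*) [Field F] : Semi (qPlus 4 F) :=
  ⟨⟨⟨rot, fun x => rot (rot x), rot_rot_rot, rot_rot_rot⟩, fun x y => by ext (i | i) <;> fin_cases i <;> rfl⟩, 1, 1,
    fun a v => by ext (i | i) <;> fin_cases i <;> rfl,
    fun v => by simp [qPlus_apply, rot, Fin.sum_univ_four]; ring⟩

/-- The para-Cayley algebra twisted by a field automorphism. -/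
def twL (θ : F ≃+* F) (h : ∀ a, θ (θ (θ a)) = a) : Tw (qPlus 4 F) :=
  (zorn F).tw (fieldSemi _ θ (qPlus_map 4 θ)) rfl (fun x => by ext i; exact h _) h
    fun x y => by ext (i | i) <;> fin_cases i <;> simp [fieldSemi_e, zorn, zornMul]

theorem twL_m (θ : F ≃+* F) (h : ∀ a, θ (θ (θ a)) = a) (x y : Fin 4 ⊕ Fin 4 → F) :
    (twL θ h).m x y = zornMul (fun i => θ (x i)) (fun i => θ (θ (y i))) := rfl

theorem twL_θ (θ : F ≃+* F) (h : ∀ a, θ (θ (θ a)) = a) : (twL θ h).θ = θ := rfl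

/-- The Okubo algebra. -/
def twO (F : Type*) [Field F] : Tw (qPlus 4 F) :=
  (zorn F).tw (rotSemi F) rfl rot_rot_rot (fun _ => rfl)
    fun x y => by ext (i | i) <;> fin_cases i <;> simp [rotSemi, rot, zorn, zornMul] <;> ring

theorem twO_m (x y : Fin 4 ⊕ Fin 4 → F) : (twO F).m x y = zornMul (rot x) (rot (rot y)) := rfl

theorem twO_θ : (twO F).θ = 1 := rfl

end Std

end Cfsg.Agent.Lib.Forms
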